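import Cfsg.Agent.Lib.Small.SuzOrder.Local.Mixed

/-!
Labels of the elements of `C_Q(u) · D`: products, squares and commutators.
-/

set_option autoImplicit false
set_option linter.unusedSectionVars false

namespace CfsgLib.Small.SuzOrder.Local

open CfsgLib.Small.SuzTwo Equiv

variable {G : Type*} [Group G] {z u g : G} {Q : Subgroup G} {f : G → Fin 64}
  {ρ : Cz z →* Perm (Fin 64)} (M : Model z Q f ρ) (W : Swap z Q f u g)

include M W

theorem Lab.inCz {x : G} {p : Lb} (h : Lab Q f g ρ x p) : x ∈ Cz z := by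
  obtain ⟨q, d, hq, hd, rfl⟩ := h
  exact mul_mem (hq.inCz M W) hd.inCz

theorem Lab.comm_u {x : G} {p : Lb} (h : Lab Q f g ρ x p) : x * u = u * x := by
  obtain ⟨q, d, hq, hd, rfl⟩ := h
  rw [mul_assoc, hd.comm_u M W, ← mul_assoc, hq.comm_u M W, mul_assoc]

theorem Lab.comm_R {x : G} {p : Lb} (h : Lab Q f g ρ x p) (e : Bool × Bool) :
    x * R z u e = R z u e * x :=
  R_comm M W (mem_Cz.1 (h.inCz M W)) (h.comm_u M W) e

theorem Lab_R (e : Bool × Bool) : Lab Q f g ρ (R z u e) (0, 0) :=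
  ⟨R z u e, R z u (false, false), QL_R M W e, DL_R M W _, by rw [R_zero, mul_one]⟩

theorem Lab_one : Lab Q f g ρ (1 : G) (0, 0) := (R_zero (z := z) (u := u)) ▸ Lab_R M W _

theorem Lab_QL {q : G} {a : Fin 16} (h : QL Q f q a) : Lab Q f g ρ q (a, 0) :=
  ⟨q, R z u (false, false), h, DL_R M W _, by rw [R_zero, mul_one]⟩

theorem Lab_DL {d : G} {b : Fin 16} (h : DL Q g ρ d b) : Lab Q f g ρ d (0, b) :=
  ⟨R z u (false, false), d, QL_R M W _, h, by rw [R_zero, one_mul]⟩

theorem exists_Lab (p : Lb) : ∃ x, Lab Q f g ρ x p := by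
  obtain ⟨q, hq⟩ := exists_QL M p.1
  obtain ⟨d, hd⟩ := exists_DL M W p.2
  exact ⟨q * d, q, d, hq, hd, rfl⟩

theorem Lab.mul {x y : G} {p r : Lb} (hx : Lab Q f g ρ x p) (hy : Lab Q f g ρ y r) :
    Lab Q f g ρ (x * y) (ladd p r) := by
  obtain ⟨q, d, hq, hd, rfl⟩ := hx
  obtain ⟨q', d', hq', hd', rfl⟩ := hy
  have h1 : QL Q f (R z u (nb r.1 p.2, nb r.1 p.2) * (q * q')) (nadd p.1 r.1) := by
    have := (QL_R M W (nb r.1 p.2, nb r.1 p.2)).mul M (hq.mul M hq')
    rwa [(nadd_self _).2.2] at this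
  refine ⟨_, d * d', h1, hd.mul hd', ?_⟩
  calc q * d * (q' * d') = q * (d * q') * d' := by group
    _ = q * R z u (nb r.1 p.2, nb r.1 p.2) * q' * d * d' := by rw [comm_DQ M W hq' hd]; group
    _ = _ := by
        rw [R_comm M W (mem_Cz.1 (hq.inCz M W)) (hq.comm_u M W)]
        group

theorem Lab.img {x : G} {p : Lb} (h : Lab Q f g ρ x p) : Img ρ x (P (sb p.2)) := by
  obtain ⟨q, d, hq, hd, rfl⟩ := h
  have := (M.img_q hq.1).mul hd.2
  rwa [one_mul] at this

theorem Lab.unique {x : G} {p r : Lb} (h : Lab Q f g ρ x p) (h' : Lab Q f g ρ x r) : p = r := by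
  have hb : p.2 = r.2 := by
    have e := (h.img M W).unique (h'.img M W)
    have e' := congrArg (fun π : Perm (Fin 64) => π 16) e
    simp only [P_apply] at e'
    rw [← sb_sixteen p.2, e', sb_sixteen]
  obtain ⟨q, d, hq, hd, rfl⟩ := h
  obtain ⟨q', d', hq', hd', e⟩ := h'
  rw [← hb] at hd'
  obtain ⟨e', rfl⟩ := hd.same M W hd'
  have hqq : q = q' * R z u e' := mul_right_cancel (b := d) (e.trans (by
    rw [R_comm M W (mem_Cz.1 hd.inCz) (hd.comm_u M W), mul_assoc]))
  have hq2 := hq'.mul M (QL_R M W e')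
  rw [(nadd_self _).2.1, ← hqq] at hq2
  exact Prod.ext (hq.2.2.symm.trans hq2.2.2) hb

theorem Lab.same {x y : G} {p : Lb} (hx : Lab Q f g ρ x p) (hy : Lab Q f g ρ y p) :
    ∃ e, y = x * R z u e := by
  obtain ⟨q, d, hq, hd, rfl⟩ := hx
  obtain ⟨q', d', hq', hd', rfl⟩ := hy
  obtain ⟨e, rfl⟩ := hq.same M W hq'
  obtain ⟨e', rfl⟩ := hd.same M W hd'
  refine ⟨(e.1 ^^ e'.1, e.2 ^^ e'.2), ?_⟩
  rw [← R_mul M W]
  calc q * R z u e * (d * R z u e') = q * (R z u e * d) * R z u e' := by group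
    _ = q * d * (R z u e * R z u e') := by
        rw [← R_comm M W (mem_Cz.1 hd.inCz) (hd.comm_u M W)]; group

theorem Lab.mul_R {x : G} {p : Lb} (h : Lab Q f g ρ x p) (e : Bool × Bool) :
    Lab Q f g ρ (x * R z u e) p := by
  have := h.mul M W (Lab_R M W e)
  rwa [show ladd p (0, 0) = p from Prod.ext (nadd_self _).2.1 (nadd_self _).2.1] at this

theorem Lab.sq {x : G} {p : Lb} (h : Lab Q f g ρ x p) : x * x = R z u (lq p) := by
  obtain ⟨q, d, hq, hd, rfl⟩ := h
  calc q * d * (q * d) = q * (d * q) * d := by group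
    _ = q * R z u (nb p.1 p.2, nb p.1 p.2) * q * (d * d) := by rw [comm_DQ M W hq hd]; group
    _ = R z u (nb p.1 p.2, nb p.1 p.2) * (q * q) * (d * d) := by
        rw [R_comm M W (mem_Cz.1 (hq.inCz M W)) (hq.comm_u M W)]; group
    _ = _ := by
        rw [hq.sq M W, hd.sq M W, R_mul M W, R_mul M W]
        simp only [lq, Bool.xor_false]
        congr 1
        cases nb p.1 p.2 <;> cases nq p.1 <;> cases nq p.2 <;> rfl

theorem Lab.comm {x y : G} {p r : Lb} (hx : Lab Q f g ρ x p) (hy : Lab Q f g ρ y r) :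
    y * x = R z u (lc p r) * (x * y) := by
  obtain ⟨q, d, hq, hd, rfl⟩ := hx
  obtain ⟨q', d', hq', hd', rfl⟩ := hy
  have cq : ∀ e, q * R z u e = R z u e * q :=
    R_comm M W (mem_Cz.1 (hq.inCz M W)) (hq.comm_u M W)
  have cq' : ∀ e, q' * R z u e = R z u e * q' :=
    R_comm M W (mem_Cz.1 (hq'.inCz M W)) (hq'.comm_u M W)
  have h1 : q * d * (q' * d') = R z u (nb r.1 p.2, nb r.1 p.2) * (q * q') * (d * d') := by
    calc q * d * (q' * d') = q * (d * q') * d' := by group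
      _ = q * R z u (nb r.1 p.2, nb r.1 p.2) * q' * (d * d') := by rw [comm_DQ M W hq' hd]; group
      _ = _ := by rw [cq]; group
  have h2 : q' * d' * (q * d) = R z u (nb p.1 r.2, nb p.1 r.2) * R z u (nb p.1 r.1, false) *
      R z u (false, nb p.2 r.2) * (q * q') * (d * d') := by
    calc q' * d' * (q * d) = q' * (d' * q) * d := by group
      _ = q' * R z u (nb p.1 r.2, nb p.1 r.2) * q * (d' * d) := by rw [comm_DQ M W hq hd']; group
      _ = R z u (nb p.1 r.2, nb p.1 r.2) * (q' * q) * (d' * d) := by rw [cq']; group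
      _ = R z u (nb p.1 r.2, nb p.1 r.2) * R z u (nb p.1 r.1, false) *
          (q * q' * R z u (false, nb p.2 r.2)) * (d * d') := by
          rw [hq.comm_QL M W hq', hd.comm_DL M W hd']; group
      _ = _ := by
          rw [show q * q' * R z u (false, nb p.2 r.2) = R z u (false, nb p.2 r.2) * (q * q') by
            rw [mul_assoc, cq', ← mul_assoc, cq, mul_assoc]]
          group
  rw [h1, h2, R_mul M W, R_mul M W, ← mul_assoc (R z u (lc p r)), ← mul_assoc (R z u (lc p r)),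
    R_mul M W]
  simp only [lc]
  congr 3
  cases nb p.1 r.2 <;> cases nb p.1 r.1 <;> cases nb p.2 r.2 <;> cases nb r.1 p.2 <;> rfl

theorem Lab.commute_iff {x y : G} {p r : Lb} (hx : Lab Q f g ρ x p) (hy : Lab Q f g ρ y r) :
    y * x = x * y ↔ lc p r = (false, false) := by
  rw [hx.comm M W hy, mul_eq_right, ← R_zero (z := z) (u := u)]
  exact ⟨fun h => R_inj M W h, fun h => by rw [h]⟩

theorem Lab.invol_iff {x : G} {p : Lb} (h : Lab Q f g ρ x p) :
    x * x = 1 ↔ lq p = (false, false) := by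
  rw [h.sq M W, ← R_zero (z := z) (u := u)]
  exact ⟨fun h => R_inj M W h, fun h => by rw [h]⟩

end CfsgLib.Small.SuzOrder.Local
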