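import Cfsg.Agent.Lib.Small.SuzOrder.Lifts
import Cfsg.Agent.Lib.Small.SuzOrder.Local.Label

/-!
The lifting signs: an involution over `ixA` centralises its fixed space, an involution over `ixC`
inverts exactly twenty-four elements of `Q`.
-/

set_option autoImplicit false
set_option linter.unusedSectionVars false

namespace CfsgLib.Small.SuzOrder.Local

open CfsgLib.Small.SuzTwo Equiv

/-- The label of the involution over `ixC` used throughout. -/
def tl : Lb := (4, 1)

theorem fixA_pr : ∀ v, InFix ixA v → bl v pt = false ∧ nb (pr v) 2 = false := by decide +kernel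

theorem fixC_perp : ∀ v, InFix ixC v → bl v pt = false := by decide +kernel

theorem tl_facts : lq tl = (false, false) ∧
    (Finset.univ.filter fun a : Fin 16 => lq (ladd tl (a, 0)) = (false, false)).card = 6 := by
  decide +kernel

theorem tl_facts' : ∀ a : Fin 16, ladd tl (a, 0) = (nadd 4 a, 1) := by decide +kernel

variable {G : Type*} [Group G] {z u g : G} {Q : Subgroup G} {f : G → Fin 64}
  {ρ : Cz z →* Perm (Fin 64)} (M : Model z Q f ρ) (W : Swap z Q f u g)

include M W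

theorem exists_tl : ∃ t, Lab Q f g ρ t tl ∧ Img ρ t (P ixC) ∧ t * t = 1 := by
  obtain ⟨t, ht⟩ := exists_Lab M W tl
  refine ⟨t, ht, ?_, (ht.invol_iff M W).2 tl_facts.1⟩
  have h := ht.img M W
  rwa [show sb tl.2 = ixC from sb_two.2] at h

/-- The number of elements with label in a given set. -/
theorem card_Lab (X : Finset Lb) :
    Nat.card {x : G // ∃ p ∈ X, Lab Q f g ρ x p} = 4 * X.card := by
  classical
  choose sec hsec using exists_Lab M W (g := g) (ρ := ρ) (f := f) (Q := Q)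
  let F : X × (Bool × Bool) → {x : G // ∃ p ∈ X, Lab Q f g ρ x p} := fun e =>
    ⟨sec e.1.1 * R z u e.2, e.1.1, e.1.2, (hsec e.1.1).mul_R M W e.2⟩
  have hF : Function.Bijective F := by
    refine ⟨fun a b h => ?_, fun x => ?_⟩
    · have h' : sec a.1.1 * R z u a.2 = sec b.1.1 * R z u b.2 := congrArg Subtype.val h
      have hp : a.1.1 = b.1.1 :=
        ((hsec a.1.1).mul_R M W a.2).unique M W (h' ▸ (hsec b.1.1).mul_R M W b.2)
      rw [hp] at h'
      exact Prod.ext (Subtype.ext hp) (R_inj M W (mul_left_cancel h'))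
    · obtain ⟨p, hp, hx⟩ := x.2
      obtain ⟨e, he⟩ := (hsec p).same M W hx
      exact ⟨(⟨p, hp⟩, e), Subtype.ext he.symm⟩
  rw [← Nat.card_congr (Equiv.ofBijective F hF), Nat.card_prod, Nat.card_eq_fintype_card (α := X),
    Fintype.card_coe, Nat.card_eq_fintype_card (α := Bool × Bool)]
  rw [Fintype.card_prod, Fintype.card_bool]
  ring

end CfsgLib.Small.SuzOrder.Local

namespace CfsgLib.Small.SuzOrder

open CfsgLib.Small.SuzTwo Equiv

/-- The lifting signs follow from the model. -/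
theorem lifts {G : Type*} [Group G] [Finite G] {z : G} {Q : Subgroup G} {f : G → Fin 64}
    {ρ : Cz z →* Perm (Fin 64)} (M : Model z Q f ρ) : Lifts z Q f ρ := by
  classical
  obtain ⟨u, g, W⟩ := M.exists_Swap
  refine ⟨fun x r hx hx2 hr hfix => ?_, fun x hx hx2 => ?_⟩
  · obtain ⟨a, ha, ha', ha2⟩ := M.exists_DA W
    have haD : Local.DL Q g ρ a 2 := ⟨ha', by rw [Local.sb_two.1]; exact ha⟩
    obtain ⟨c, hc, hcx⟩ := M.coset_class invA ha ha2 hx hx2
    have hcI : Img ρ c (ρ ⟨c, hc⟩) := Img.mk' hc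
    have hcomm : ρ ⟨c, hc⟩ * P ixA * (ρ ⟨c, hc⟩)⁻¹ = P ixA := by
      refine (ha.conj hcI).unique ?_
      rcases hcx with e | e
      · rw [e]; exact hx
      · rw [e]; exact M.img_mul_q hx M.z_mem
    have hr' : c⁻¹ * r * c ∈ Q := by
      have h := M.normal _ (inv_mem hc) r hr
      rwa [inv_inv] at h
    have hfix' : InFix ixA (f (c⁻¹ * r * c)) := by
      have h1 := M.img_conj hcI.inv hr
      rw [inv_inv] at h1
      rw [h1, InFix, ← P_apply]
      calc P ixA ((ρ ⟨c, hc⟩)⁻¹ (f r)) = ((ρ ⟨c, hc⟩)⁻¹ * P ixA) (f r) := by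
            have e := congrArg (fun π => (ρ ⟨c, hc⟩)⁻¹ * π * ρ ⟨c, hc⟩) hcomm
            simp only [mul_assoc, inv_mul_cancel, mul_one, inv_mul_cancel_left] at e
            have e2 : (ρ ⟨c, hc⟩)⁻¹ * P ixA = P ixA * (ρ ⟨c, hc⟩)⁻¹ := by
              rw [eq_mul_inv_iff_mul_eq, mul_assoc, ← e]
            rw [e2, Perm.mul_apply]
        _ = (ρ ⟨c, hc⟩)⁻¹ (f r) := by rw [Perm.mul_apply, P_apply, hfix]
    obtain ⟨hp, hb⟩ := Local.fixA_pr _ hfix'
    have hQL : Local.QL Q f (c⁻¹ * r * c) (Local.pr (f (c⁻¹ * r * c))) := ⟨hr', hp, rfl⟩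
    have hcom : a * (c⁻¹ * r * c) = c⁻¹ * r * c * a := by
      rw [Local.comm_DQ M W hQL haD, hb, Local.R_zero, one_mul]
    have h1 : c * a * c⁻¹ * r = r * (c * a * c⁻¹) := by
      calc c * a * c⁻¹ * r = c * (a * (c⁻¹ * r * c)) * c⁻¹ := by group
        _ = r * (c * a * c⁻¹) := by rw [hcom]; group
    rcases hcx with e | e
    · rwa [e] at h1
    · rw [e] at h1
      have hrz := mem_Cz.1 (M.le hr)
      calc x * r = x * z * r * z := by
            rw [mul_assoc (x * z), hrz, mul_assoc x, ← mul_assoc z, M.zz, one_mul]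
        _ = r * (x * z) * z := by rw [h1]
        _ = r * x := by rw [mul_assoc, mul_assoc, M.zz, mul_one]
  · obtain ⟨t, ht, htI, ht2⟩ := Local.exists_tl M W
    obtain ⟨c, hc, hcx⟩ := M.class_C htI ht2 hx hx2
    let X : Finset Local.Lb := (Finset.univ.filter fun a : Fin 16 =>
      Local.lq (Local.ladd Local.tl (a, 0)) = (false, false)).map
        ⟨fun a => (a, 0), fun a b h => (Prod.ext_iff.1 h).1⟩
    have hX : X.card = 6 := by rw [Finset.card_map]; exact Local.tl_facts.2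
    have hset : ∀ r : G, (r ∈ Q ∧ t * r * t⁻¹ = r⁻¹) ↔ ∃ p ∈ X, Local.Lab Q f g ρ r p := by
      intro r
      constructor
      · rintro ⟨hr, hinv⟩
        have hQL : Local.QL Q f r (Local.pr (f r)) :=
          ⟨hr, Local.fixC_perp _ (M.inverted_fix htI hr hinv), rfl⟩
        refine ⟨_, Finset.mem_map.2 ⟨Local.pr (f r), Finset.mem_filter.2 ⟨Finset.mem_univ _,
          ((ht.mul M W (Local.Lab_QL M W hQL)).invol_iff M W).1 ?_⟩, rfl⟩, Local.Lab_QL M W hQL⟩
        exact (M.inverted_iff ht2).2 hinv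
      · rintro ⟨p, hp, hr⟩
        obtain ⟨a, ha, rfl⟩ := Finset.mem_map.1 hp
        have hrQ : r ∈ Q := by
          obtain ⟨q, hq⟩ := Local.exists_QL M a
          obtain ⟨e, rfl⟩ := (Local.Lab_QL M W hq).same M W hr
          exact mul_mem hq.1 (Local.R_mem_Q M W e)
        exact ⟨hrQ, (M.inverted_iff ht2).1
          (((ht.mul M W hr).invol_iff M W).2 (Finset.mem_filter.1 ha).2)⟩
    rw [show 24 = 4 * X.card by rw [hX], ← Local.card_Lab M W (g := g) (ρ := ρ) (f := f) (Q := Q) X]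
    refine Nat.card_congr
      { toFun := fun r => ⟨c⁻¹ * r.1 * c, (hset _).1 ⟨?_, ?_⟩⟩
        invFun := fun r => ⟨c * r.1 * c⁻¹, M.normal c hc _ ((hset r.1).2 r.2).1, ?_⟩
        left_inv := fun r => Subtype.ext (by show c * (c⁻¹ * r.1 * c) * c⁻¹ = r.1; group)
        right_inv := fun r => Subtype.ext (by show c⁻¹ * (c * r.1 * c⁻¹) * c = r.1; group) }
    · have h := M.normal _ (inv_mem hc) _ r.2.1
      rwa [inv_inv] at h
    · calc t * (c⁻¹ * r.1 * c) * t⁻¹ = c⁻¹ * (c * t * c⁻¹ * r.1 * (c * t * c⁻¹)⁻¹) * c := by group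
        _ = (c⁻¹ * r.1 * c)⁻¹ := by rw [hcx, r.2.2]; group
    · have h := ((hset r.1).2 r.2).2
      calc x * (c * r.1 * c⁻¹) * x⁻¹ = c * (t * r.1 * t⁻¹) * c⁻¹ := by rw [← hcx]; group
        _ = (c * r.1 * c⁻¹)⁻¹ := by rw [h]; group

end CfsgLib.Small.SuzOrder
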