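import Cfsg.Agent.Lib.Small.SuzOrder.Local.Stab

/-!
The classes of the involutions with labels, and the order of the centraliser of `z`.
-/

set_option autoImplicit false
set_option linter.unusedSectionVars false

namespace CfsgLib.Small.SuzOrder.Local

open CfsgLib.Small.SuzTwo Equiv

variable {G : Type*} [Group G] {z u g : G} {Q : Subgroup G} {f : G → Fin 64}
  {ρ : Cz z →* Perm (Fin 64)} (M : Model z Q f ρ) (W : Swap z Q f u g)

include M

theorem card_Cz : Nat.card (Cz z) = 3317760 := by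
  have h := Subgroup.card_mul_index ρ.ker
  rw [Subgroup.index_ker, M.ρ_card] at h
  have hk : ρ.ker = Q.subgroupOf (Cz z) := by
    ext c
    rw [MonoidHom.mem_ker, M.ρ_ker, Subgroup.mem_subgroupOf]
  rw [hk, Nat.card_congr (Subgroup.subgroupOfEquivOfLe M.le).toEquiv, M.card] at h
  omega

theorem Q_invol_type {x : G} (hx : x ∈ Q) (h2 : x * x = 1) (h1 : x ≠ 1) : IsConj z x := by
  by_cases hz : x = z
  · rw [hz]
  · exact isConj_iff.2 (M.nc_conj_z ⟨hx, h2, h1, hz⟩)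

theorem not_conj_t {t : G} (ht : Img ρ t (P ixC)) (ht2 : t * t = 1) : ¬ IsConj z t := fun h => by
  obtain ⟨k, hk⟩ := isConj_iff.1 h
  exact M.not_conj_z ht ht2 hk

/-- An involution of the centraliser of `z` outside the class of `z` is conjugate to `t` there. -/
theorem t_class {t y : G} (ht : Img ρ t (P ixC)) (ht2 : t * t = 1) (hy : y ∈ Cz z)
    (hy2 : y * y = 1) (hy1 : y ≠ 1) (hyz : ¬ IsConj z y) : ∃ c ∈ Cz z, c * t * c⁻¹ = y := by
  obtain ⟨π, hπ⟩ : ∃ π, Img ρ y π := ⟨_, Img.mk' hy⟩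
  have hπ1 : π ≠ 1 := fun e => hyz (Q_invol_type M (M.img_one_mem (e ▸ hπ)) hy2 hy1)
  have hπ2 : π * π = 1 := (hy2 ▸ hπ.mul hπ).unique Img.one
  obtain ⟨σ, hσ, hA | hC⟩ := invol_conj M.range_le M.ρ_card hπ.mem_range hπ2 hπ1
  · exact absurd (isConj_iff.2 (M.near_conj_z hy2 hy1 (M.near_of_A hπ hσ hA hy2))) hyz
  · obtain ⟨s, hs⟩ := exists_img hσ
    obtain ⟨c, hc, he⟩ := M.class_C ht ht2 (hC ▸ hπ.conj hs) (conj_sq_one s hy2)
    refine ⟨s⁻¹ * c, mul_mem (inv_mem hs.mem) hc, ?_⟩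
    calc s⁻¹ * c * t * (s⁻¹ * c)⁻¹ = s⁻¹ * (c * t * c⁻¹) * s := by group
      _ = y := by rw [he]; group

include W

/-- The class of an involution with a label. -/
theorem Lab.type {t x : G} {p : Lb} (ht : Img ρ t (P ixC)) (ht2 : t * t = 1)
    (hx : Lab Q f g ρ x p) (hx2 : x * x = 1) (hx1 : x ≠ 1) :
    (nq p.2 = false → IsConj z x) ∧ (nq p.2 = true → IsConj t x ∧ ¬ IsConj z x) := by
  have hxI := hx.img M W
  by_cases hb : p.2 = 0
  · refine ⟨fun _ => Q_invol_type M ?_ hx2 hx1, fun h => ?_⟩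
    · rw [hb, P_sb_zero] at hxI
      exact M.img_one_mem hxI
    · rw [hb] at h
      exact absurd h (by decide)
  obtain ⟨w, hw, hw1, hw2⟩ := sb_kind p.2 hb
  obtain ⟨-, -, hmul⟩ := siegelWit_ok w hw
  have he : P w.2.2 * P w.2.1 = P (sb p.2) * P w.2.2 := Equiv.ext fun v => by
    simp only [Perm.mul_apply, P_apply, ← ap_mul, hmul, hw1]
  have hσ : (P w.2.2)⁻¹ ∈ ρ.range := inv_mem (named_mem M.range_le M.ρ_card _)
  have hconj : (P w.2.2)⁻¹ * P (sb p.2) * (P w.2.2)⁻¹⁻¹ = P w.2.1 := by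
    rw [inv_inv, mul_assoc, ← he, inv_mul_cancel_left]
  constructor
  · intro hn
    rw [hn] at hw2
    simp only [Bool.false_eq_true, if_false] at hw2
    rw [hw2] at hconj
    exact isConj_iff.2 (M.near_conj_z hx2 hx1 (M.near_of_A hxI hσ hconj hx2))
  · intro hn
    rw [hn, if_pos rfl] at hw2
    rw [hw2] at hconj
    obtain ⟨s, hs⟩ := exists_img hσ
    obtain ⟨c, hc, hce⟩ := M.class_C ht ht2 (hconj ▸ hxI.conj hs) (conj_sq_one s hx2)
    have htx : IsConj t x := isConj_iff.2 ⟨s⁻¹ * c, by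
      calc s⁻¹ * c * t * (s⁻¹ * c)⁻¹ = s⁻¹ * (c * t * c⁻¹) * s := by group
        _ = x := by rw [hce]; group⟩
    exact ⟨htx, fun h => not_conj_t M ht ht2 (h.trans htx.symm)⟩

omit W in
/-- The centraliser of `t` is transitive on the conjugates of `z` it contains. -/
theorem pair_conj {t i : G} (ht : Img ρ t (P ixC)) (ht2 : t * t = 1) (hi : IsConj z i)
    (hit : i * t = t * i) : ∃ h : G, h * t = t * h ∧ h * z * h⁻¹ = i := by
  obtain ⟨k, hk⟩ := isConj_iff.1 hi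
  have ht1 : t ≠ 1 := fun e => M.not_mem_of_img ht invC.P_ne (e ▸ one_mem Q)
  obtain ⟨c, hc, he⟩ := t_class M (y := k⁻¹ * t * k) ht ht2 (mem_Cz.2 (by
      rw [← hk] at hit
      calc k⁻¹ * t * k * z = k⁻¹ * (t * (k * z * k⁻¹)) * k := by group
        _ = k⁻¹ * (k * z * k⁻¹ * t) * k := by rw [hit]
        _ = z * (k⁻¹ * t * k) := by group))
    (by simpa using conj_sq_one k⁻¹ ht2)
    (fun e => ht1 (conj_eq_one_iff.1 (show k⁻¹ * t * k⁻¹⁻¹ = 1 by rwa [inv_inv])))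
    (fun h => not_conj_t M ht ht2 (h.trans (isConj_iff.2 ⟨k, by group⟩)))
  refine ⟨k * c, mul_inv_eq_iff_eq_mul.1 ?_, ?_⟩
  · calc k * c * t * (k * c)⁻¹ = k * (c * t * c⁻¹) * k⁻¹ := by group
      _ = t := by rw [he]; group
  · calc k * c * z * (k * c)⁻¹ = k * (c * z * c⁻¹) * k⁻¹ := by group
      _ = i := by rw [mul_inv_eq_iff_eq_mul.2 (mem_Cz.1 hc), hk]

omit W in
theorem two [Finite G] {t x : G} (ht : Img ρ t (P ixC)) (ht2 : t * t = 1) (hx : orderOf x = 2) :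
    IsConj z x ∨ IsConj t x := by
  have hx2 : x * x = 1 := by
    have := pow_orderOf_eq_one x
    rwa [hx, sq] at this
  have hx1 : x ≠ 1 := fun e => by rw [e, orderOf_one] at hx; omega
  obtain ⟨k, hk⟩ := M.into_Cz hx2
  have hxy : IsConj x (k * x * k⁻¹) := isConj_iff.2 ⟨k, rfl⟩
  by_cases hz : IsConj z (k * x * k⁻¹)
  · exact Or.inl (hz.trans hxy.symm)
  · obtain ⟨c, -, hc⟩ := t_class M ht ht2 hk (conj_sq_one k hx2)
      (fun e => hx1 (conj_eq_one_iff.1 e)) hz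
    exact Or.inr ((isConj_iff.2 ⟨c, hc⟩).trans hxy.symm)

end CfsgLib.Small.SuzOrder.Local
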