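import Cfsg.Agent.Lib.Small.SuzTwo.Facts
import Cfsg.Agent.Lib.Small.SuzTwo.FactsSiegel

/-!
The four-dimensional space `pt^⊥ / pt`, the labels of the group of order `2 ^ 10` above it, and the
finite checks about them.
-/

set_option autoImplicit false
set_option maxRecDepth 100000
set_option maxHeartbeats 0

namespace CfsgLib.Small.SuzOrder.Local

open CfsgLib.Small.SuzTwo

/-- The representative of a vector of `pt^⊥ / pt`. -/
def em (a : Fin 16) : Fin 64 :=
  vadd (vadd (sel (a.val.testBit 0) 1) (sel (a.val.testBit 1) 4))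
    (vadd (sel (a.val.testBit 2) 8) (sel (a.val.testBit 3) 32))

/-- The class of a vector. -/
def pr (v : Fin 64) : Fin 16 :=
  (if v.val.testBit 0 then 1 else 0) ^^^ (if v.val.testBit 2 then 2 else 0) ^^^
    (if v.val.testBit 3 then 4 else 0) ^^^ (if v.val.testBit 5 then 8 else 0)

/-- Sum. -/
def nadd (a b : Fin 16) : Fin 16 := a ^^^ b

/-- The induced quadratic form. -/
def nq (a : Fin 16) : Bool := qb (em a)

/-- The induced bilinear form. -/
def nb (a b : Fin 16) : Bool := bl (em a) (em b)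

/-- The transvection with a given parameter. -/
def sb (b : Fin 16) : Ix :=
  ([0, 28, 27, 29, 42, 44, 43, 45, 34, 36, 35, 37, 50, 52, 51, 53] : List Ix).getD b.val 0

/-- The action of a named element of the stabiliser of `pt`. -/
def phi (i : Ix) (a : Fin 16) : Fin 16 := pr ((nm i).ap (em a))

/-- The named elements used. -/
def stabIx : List Ix := [30, 92, 96, 58, 111]

/-- A pair of labels. -/
abbrev Lb : Type := Fin 16 × Fin 16

/-- Sum of labels. -/
def ladd (p r : Lb) : Lb := (nadd p.1 r.1, nadd p.2 r.2)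

/-- The exponents of the square. -/
def lq (p : Lb) : Bool × Bool := (nq p.1 ^^ nb p.1 p.2, nq p.2 ^^ nb p.1 p.2)

/-- The exponents of the commutator. -/
def lc (p r : Lb) : Bool × Bool :=
  (nb p.1 r.1 ^^ (nb p.1 r.2 ^^ nb r.1 p.2), nb p.2 r.2 ^^ (nb p.1 r.2 ^^ nb r.1 p.2))

theorem em_perp : ∀ a, bl (em a) pt = false := by decide +kernel

theorem pr_em : ∀ a, pr (em a) = a := by decide +kernel

theorem pr_vadd : ∀ v w, pr (vadd v w) = nadd (pr v) (pr w) := by decide +kernel

theorem split_perp : ∀ v, bl v pt = false →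
    v = vadd (em (pr v)) (sel (v.val.testBit 1) pt) := by decide +kernel

theorem pr_pt : pr pt = 0 ∧ pr 0 = 0 := by decide +kernel

theorem bl_pr : ∀ v w, bl v pt = false → bl w pt = false → bl v w = nb (pr v) (pr w) := by
  decide +kernel

theorem qb_pr : ∀ v, bl v pt = false → qb v = nq (pr v) := by decide +kernel

theorem sb_mem : ∀ b, sb b ∈ siegel := by decide +kernel

theorem siegel_sb : ∀ s ∈ siegel, ∃ b, nm s = nm (sb b) := by decide +kernel

theorem sb_zero : nm (sb 0) = idMat := by decide +kernel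

theorem sb_two : sb 2 = ixA ∧ sb 1 = ixC := by decide +kernel

theorem sb_act : ∀ b v, bl v pt = false →
    (nm (sb b)).ap v = vadd v (sel (nb (pr v) b) pt) := by decide +kernel

theorem sb_mul : ∀ b c, (nm (sb b)).mul (nm (sb c)) = nm (sb (nadd b c)) := by decide +kernel

theorem sb_sixteen : ∀ b, pr ((nm (sb b)).ap 16) = b := by decide +kernel

theorem sb_kind : ∀ b, b ≠ 0 →
    ∃ w ∈ siegelWit, w.1 = sb b ∧ w.2.1 = if nq b then ixC else ixA := by decide +kernel

theorem stab_pt : ∀ i ∈ stabIx, (nm i).ap pt = pt := by decide +kernel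

theorem stab_pr : ∀ i ∈ stabIx, ∀ v, bl v pt = false →
    bl ((nm i).ap v) pt = false ∧ pr ((nm i).ap v) = phi i (pr v) := by decide +kernel

theorem stab_sb : ∀ i ∈ stabIx, ∀ b, (nm i).mul (nm (sb b)) = (nm (sb (phi i b))).mul (nm i) := by
  decide +kernel

theorem stab_form : ∀ i ∈ stabIx, ∀ a b, nb (phi i a) (phi i b) = nb a b := by decide +kernel

theorem stab_gens : phi 30 1 = 1 ∧ phi 92 1 = 1 ∧ phi 96 1 = 4 ∧ phi 58 1 = 3 ∧ phi 111 1 = 9 := by
  decide +kernel

theorem stab_surj : ∀ i ∈ stabIx, ∀ b, ∃ c, phi i c = b := by decide +kernel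

/-- A linear function of four bits. -/
def lin (x1 x2 x4 x8 : Bool) (b : Fin 16) : Bool :=
  ((b.val.testBit 0 && x1) ^^ (b.val.testBit 1 && x2)) ^^
    ((b.val.testBit 2 && x4) ^^ (b.val.testBit 3 && x8))

theorem fun_inv : ∀ x1 x2 x4 x8 : Bool,
    (∀ b, lin x1 x2 x4 x8 (phi 30 b) = lin x1 x2 x4 x8 b) →
    (∀ b, lin x1 x2 x4 x8 (phi 92 b) = lin x1 x2 x4 x8 b) →
    ∀ b, lin x1 x2 x4 x8 b = (x4 && nb 1 b) := by
  decide +kernel

theorem span_four : ∀ a : Fin 16, ∃ c1 c4 c3 c9 : Bool,
    a = nadd (nadd (if c1 then 1 else 0) (if c4 then 4 else 0))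
      (nadd (if c3 then 3 else 0) (if c9 then 9 else 0)) := by
  decide +kernel

theorem nb_add_left : ∀ a b c, nb (nadd a b) c = (nb a c ^^ nb b c) := by decide +kernel

theorem nb_add_right : ∀ a b c, nb a (nadd b c) = (nb a b ^^ nb a c) := by decide +kernel

theorem nb_zero : ∀ a, nb 0 a = false ∧ nb a 0 = false := by decide +kernel

theorem nq_add : ∀ a b, nq (nadd a b) = ((nq a ^^ nq b) ^^ nb a b) := by decide +kernel

theorem nb_one_four : nb 1 4 = true := by decide +kernel

theorem nadd_self : ∀ a : Fin 16, nadd a a = 0 ∧ nadd a 0 = a ∧ nadd 0 a = a := by decide +kernel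

end CfsgLib.Small.SuzOrder.Local
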