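import Cfsg.Agent.Lib.Small.SuzOrder.Local

/-!
Both interfaces in a group of Suzuki sporadic type: the existence of the pair.
-/

set_option autoImplicit false

namespace CfsgLib.Small.SuzOrder

open CfsgLib.Small.SuzTwo Equiv

/-- An involution over `ixC` with local data. -/
theorem exists_local_data {G : Type*} [Group G] [Finite G] {z : G} {Q : Subgroup G}
    {f : G → Fin 64} {ρ : Cz z →* Perm (Fin 64)} (M : Model z Q f ρ) :
    ∃ t : G, Img ρ t (P ixC) ∧ Nonempty (LocData z t) := by
  obtain ⟨t, h, -, hD⟩ := exists_local M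
  exact ⟨t, h, hD⟩

end CfsgLib.Small.SuzOrder
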