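import Cfsg.Agent.Lib.Small.SuzOrder.Interface
import Cfsg.Agent.Lib.Small.SuzOrder.Local.Sign
import Cfsg.Agent.Lib.Small.SuzOrder.Local.Conj

/-!
The subgroups given by sets of labels and the shape of `C(z) ∩ C(t)`.
-/

set_option autoImplicit false
set_option linter.unusedSectionVars false

namespace CfsgLib.Small.SuzOrder.Local

open CfsgLib.Small.SuzTwo Equiv

/-- The data fixed throughout: a swap, the involution `t` and an element moving `u`. -/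
structure Cfg {G : Type*} [Group G] (z u g t y : G) (Q : Subgroup G) (f : G → Fin 64)
    (ρ : Cz z →* Perm (Fin 64)) : Prop where
  model : Model z Q f ρ
  swap : Swap z Q f u g
  lab : Lab Q f g ρ t tLb
  img : Img ρ t (P ixC)
  tt : t * t = 1
  y_Cz : y ∈ Cz z
  y_t : y * t = t * y
  y_u : y * u * y⁻¹ = z * u
  y_R : ∀ e, y * R z u e * y⁻¹ = R z u (e.1 ^^ e.2, e.2)
  y_lab : ∀ x p, Lab Q f g ρ x p → Lab Q f g ρ (y * x * y⁻¹) (sigma p)

theorem exists_cfg {G : Type*} [Group G] {z : G} {Q : Subgroup G} {f : G → Fin 64}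
    {ρ : Cz z →* Perm (Fin 64)} (M : Model z Q f ρ) :
    ∃ u g t y, Cfg z u g t y Q f ρ := by
  obtain ⟨u, g, W⟩ := M.exists_Swap
  obtain ⟨t, ht, htI, ht2⟩ := exists_tl M W
  obtain ⟨y, h1, h2, h3, h4, h5⟩ := exists_y M W ht
  exact ⟨u, g, t, y, M, W, ht, htI, ht2, h1, h2, h3, h4, h5⟩

namespace Cfg

variable {G : Type*} [Group G] {z u g t y : G} {Q : Subgroup G} {f : G → Fin 64}
  {ρ : Cz z →* Perm (Fin 64)} (C : Cfg z u g t y Q f ρ)

include C

/-- The elements with label in a set closed under sums. -/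
def LS (X : Finset Lb) (h0 : (0, 0) ∈ X) (hadd : ∀ p ∈ X, ∀ r ∈ X, ladd p r ∈ X) : Subgroup G where
  carrier := {x | ∃ p ∈ X, Lab Q f g ρ x p}
  one_mem' := ⟨(0, 0), h0, Lab_one C.model C.swap⟩
  mul_mem' := by
    rintro x x' ⟨p, hp, hx⟩ ⟨r, hr, hx'⟩
    exact ⟨ladd p r, hadd p hp r hr, hx.mul C.model C.swap hx'⟩
  inv_mem' := by
    rintro x ⟨p, hp, hx⟩
    refine ⟨p, hp, ?_⟩
    have h := hx.sq C.model C.swap
    have : x⁻¹ = x * R z u (lq p) := by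
      apply inv_eq_of_mul_eq_one_right
      rw [← mul_assoc, h, R_sq C.model C.swap]
    rw [this]
    exact hx.mul_R C.model C.swap _

theorem card_LS (X : Finset Lb) (h0 : (0, 0) ∈ X) (hadd : ∀ p ∈ X, ∀ r ∈ X, ladd p r ∈ X) :
    Nat.card (C.LS X h0 hadd) = 4 * X.card :=
  card_Lab C.model C.swap X

/-- `C(z) ∩ C(u) ∩ C(t)`. -/
def T0 : Subgroup G := C.LS U0 zero_mem.1 U0_add

theorem mem_Tz' {x : G} : x ∈ Tz z t ↔ x * z = z * x ∧ x * t = t * x := by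
  simp only [Tz, Subgroup.mem_inf, Subgroup.mem_centralizer_singleton_iff]

theorem T0_le : C.T0 ≤ Tz z t := by
  rintro x ⟨p, hp, hx⟩
  refine C.mem_Tz'.2 ⟨mem_Cz.1 (hx.inCz C.model C.swap), ?_⟩
  exact (C.lab.commute_iff C.model C.swap hx).2 (Finset.mem_filter.1 hp).2

theorem mem_T0_iff {x : G} : x ∈ C.T0 ↔ x ∈ Tz z t ∧ x * u = u * x := by
  refine ⟨fun h => ⟨C.T0_le h, ?_⟩, fun ⟨h, hu⟩ => ?_⟩
  · obtain ⟨p, -, hx⟩ := h
    exact hx.comm_u C.model C.swap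
  · obtain ⟨hz, ht⟩ := C.mem_Tz'.1 h
    obtain ⟨p, hp⟩ := stab_Lab C.model C.swap C.lab (mem_Cz.2 hz) hu ht
    exact ⟨p, Finset.mem_filter.2 ⟨Finset.mem_univ _, (C.lab.commute_iff C.model C.swap hp).1 ht⟩,
      hp⟩

theorem card_T0 : Nat.card C.T0 = 256 := by
  rw [T0, C.card_LS, card_sets.1]

theorem u_moved {x : G} (hx : x ∈ Tz z t) : x * u * x⁻¹ = u ∨ x * u * x⁻¹ = z * u := by
  obtain ⟨hz, ht⟩ := C.mem_Tz'.1 hx
  have M := C.model
  have W := C.swap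
  have hxC : x ∈ Cz z := mem_Cz.2 hz
  have hu' : Nc z Q (x * u * x⁻¹) := M.Nc_conj hxC W.nc
  have hut : u * t = t * u := (C.lab.comm_u M W).symm
  have hperp : ∀ q ∈ Q, q * t = t * q → InFix ixC (f q) := by
    intro q hq hqt
    rw [InFix, ← P_apply, ← M.img_conj C.img hq, ← hqt, mul_inv_cancel_right]
  have hfix := hperp _ hu'.1 (by
    calc x * u * x⁻¹ * t = x * (u * (x⁻¹ * t * x)) * x⁻¹ := by group
      _ = x * (u * t) * x⁻¹ := by rw [show x⁻¹ * t * x = t by rw [mul_assoc, ← ht]; group]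
      _ = x * (t * u) * x⁻¹ := by rw [hut]
      _ = (x * t * x⁻¹) * (x * u * x⁻¹) := by group
      _ = _ := by rw [mul_inv_eq_iff_eq_mul.2 ht])
  have probe : ∀ a : Fin 16, (a, 0) ∈ U0 → nb (pr (f (x * u * x⁻¹))) a = false := by
    intro a ha
    obtain ⟨r, hr⟩ := exists_QL M a
    have hrt : r * t = t * r :=
      (C.lab.commute_iff M W (Lab_QL M W hr)).2 (Finset.mem_filter.1 ha).2
    have hr' : x⁻¹ * r * x ∈ Q := by
      have h := M.normal _ (inv_mem hxC) r hr.1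
      rwa [inv_inv] at h
    have hp := fixC_perp _ (hperp _ hr' (by
      calc x⁻¹ * r * x * t = x⁻¹ * (r * (x * t * x⁻¹)) * x := by group
        _ = x⁻¹ * (r * t) * x := by rw [mul_inv_eq_iff_eq_mul.2 ht]
        _ = x⁻¹ * (t * r) * x := by rw [hrt]
        _ = (x⁻¹ * t * x) * (x⁻¹ * r * x) := by group
        _ = _ := by rw [show x⁻¹ * t * x = t by rw [mul_assoc, ← ht]; group]))
    have hc : x⁻¹ * r * x * u = u * (x⁻¹ * r * x) :=
      ((M.commute_iff hr' W.nc.1).2 (by rw [W.fu]; exact hp)).symm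
    have h2 : r * (x * u * x⁻¹) = x * u * x⁻¹ * r := by
      calc r * (x * u * x⁻¹) = x * (x⁻¹ * r * x * u) * x⁻¹ := by group
        _ = x * (u * (x⁻¹ * r * x)) * x⁻¹ := by rw [hc]
        _ = x * u * x⁻¹ * r := by group
    have h3 := (M.commute_iff hu'.1 hr.1).1 h2
    rwa [bl_pr _ _ (fixC_perp _ hfix) hr.2.1, hr.2.2] at h3
  obtain ⟨hs, h0⟩ := M.Nc_f hu'
  obtain ⟨p1, p2, h⟩ := small_probe
  have hfpt := (h _ hfix hs (probe 2 p1) (probe 8 p2)).resolve_left h0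
  rcases M.f_eq W.nc.1 hu'.1 (W.fu.trans hfpt.symm) with e | e
  · exact Or.inl e
  · exact Or.inr (e.trans (uz M W))

theorem y_mem : y ∈ Tz z t := C.mem_Tz'.2 ⟨mem_Cz.1 C.y_Cz, C.y_t⟩

theorem y_not : y ∉ C.T0 := fun h => C.model.z_ne (by
  have e := mul_inv_eq_iff_eq_mul.2 (C.mem_T0_iff.1 h).2
  rw [C.y_u] at e
  exact mul_eq_right.1 e)

theorem coset {x : G} (hx : x ∈ Tz z t) (h0 : x ∉ C.T0) : y⁻¹ * x ∈ C.T0 := by
  refine C.mem_T0_iff.2 ⟨mul_mem (inv_mem C.y_mem) hx, mul_inv_eq_iff_eq_mul.1 ?_⟩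
  have hxu : x * u * x⁻¹ = z * u :=
    (C.u_moved hx).resolve_left fun h => h0 (C.mem_T0_iff.2 ⟨hx, mul_inv_eq_iff_eq_mul.1 h⟩)
  calc y⁻¹ * x * u * (y⁻¹ * x)⁻¹ = y⁻¹ * (x * u * x⁻¹) * y := by group
    _ = y⁻¹ * (y * u * y⁻¹) * y := by rw [hxu, C.y_u]
    _ = u := by group

theorem card_T [Finite G] : Nat.card (Tz z t) = 512 := by
  classical
  let F : Bool × C.T0 → Tz z t := fun e =>
    ⟨(if e.1 then y else 1) * e.2, mul_mem (by split <;> simp [C.y_mem]) (C.T0_le e.2.2)⟩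
  have hF : Function.Bijective F := by
    refine ⟨fun a b h => ?_, fun x => ?_⟩
    · have h' := congrArg Subtype.val h
      obtain ⟨i, a⟩ := a
      obtain ⟨j, b⟩ := b
      cases i <;> cases j <;> simp only [F, if_true, Bool.false_eq_true, if_false, one_mul] at h'
      · rw [Subtype.ext h']
      · exact absurd (by simpa [h'] using mul_mem a.2 (inv_mem b.2)) C.y_not
      · exact absurd (by simpa [← h'] using mul_mem b.2 (inv_mem a.2)) C.y_not
      · rw [Subtype.ext (mul_left_cancel h')]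
    · by_cases hx : (x : G) ∈ C.T0
      · exact ⟨(false, ⟨x, hx⟩), Subtype.ext (by simp [F])⟩
      · exact ⟨(true, ⟨_, C.coset x.2 hx⟩), Subtype.ext (by simp [F])⟩
  rw [← Nat.card_congr (Equiv.ofBijective F hF), Nat.card_prod, C.card_T0,
    Nat.card_eq_fintype_card, Fintype.card_bool]

theorem conj_T0 {x s : G} {p : Lb} (hx : x ∈ C.T0) (hs : Lab Q f g ρ s p) :
    ∃ e, x * s * x⁻¹ = s * R z u e := by
  obtain ⟨r, -, hr⟩ := hx
  refine ⟨lc p r, ?_⟩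
  rw [hs.comm C.model C.swap hr, mul_assoc, mul_inv_cancel_right,
    ← hs.comm_R C.model C.swap]

theorem conj_outer {x s : G} {p : Lb} (hx : x ∈ Tz z t) (h0 : x ∉ C.T0)
    (hs : Lab Q f g ρ s p) : Lab Q f g ρ (x * s * x⁻¹) (sigma p) := by
  obtain ⟨e, he⟩ := C.conj_T0 (C.coset hx h0) hs
  have := C.y_lab _ _ (hs.mul_R C.model C.swap e)
  rw [← he] at this
  rwa [show y * (y⁻¹ * x * s * (y⁻¹ * x)⁻¹) * y⁻¹ = x * s * x⁻¹ by group] at this

theorem R_T0 (e : Bool × Bool) : R z u e ∈ C.T0 :=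
  ⟨(0, 0), zero_mem.1, Lab_R C.model C.swap e⟩

theorem t_mem : t ∈ C.T0 := ⟨tLb, zero_mem.2.2.2.1, C.lab⟩

theorem z_mem : z ∈ C.T0 := by simpa [R, zp] using C.R_T0 (true, false)

theorem u_mem : u ∈ C.T0 := by simpa [R, zp] using C.R_T0 (false, true)

theorem R_type {e : Bool × Bool} (he : e ≠ (false, false)) : IsConj z (R z u e) := by
  refine Q_invol_type C.model (R_mem_Q C.model C.swap e) (R_sq C.model C.swap e) fun h => he ?_
  exact R_inj C.model C.swap (h.trans R_zero.symm)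

/-- No conjugate of `z` lies outside `T₀`. -/
theorem z_type_T0 [Finite G] {x : G} (hx : x ∈ Tz z t) (hz : IsConj z x) : x ∈ C.T0 := by
  obtain ⟨h1, h2⟩ := C.mem_Tz'.1 hx
  have M := C.model
  have W := C.swap
  obtain ⟨k, hk⟩ := isConj_iff.1 hz
  have hx2 : x * x = 1 := hk ▸ conj_sq_one k M.zz
  have hx1 : x ≠ 1 := hk ▸ fun e => M.z_ne (conj_eq_one_iff.1 e)
  have hxC : x ∈ Cz z := mem_Cz.2 h1
  refine C.mem_T0_iff.2 ⟨hx, ?_⟩
  by_cases hxQ : x ∈ Q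
  · refine ((M.commute_iff hxQ W.nc.1).2 ?_).symm
    rw [W.fu]
    refine fixC_perp _ ?_
    rw [InFix, ← P_apply, ← M.img_conj C.img hxQ, ← h2, mul_inv_cancel_right]
  obtain ⟨π, hπ⟩ : ∃ π, Img ρ x π := ⟨_, Img.mk' hxC⟩
  have hπ1 : π ≠ 1 := fun e => hxQ (M.img_one_mem (e ▸ hπ))
  have hπ2 : π * π = 1 := (hx2 ▸ hπ.mul hπ).unique Img.one
  have hux : f (x * u * x⁻¹) = f u := by
    rcases C.u_moved hx with e | e <;> rw [e]
    rw [← uz M W, M.f_mul_z W.nc.1]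
  obtain ⟨σ, hσ, hA | hC⟩ := invol_conj M.range_le M.ρ_card hπ.mem_range hπ2 hπ1
  · obtain ⟨s, hs⟩ := exists_img hσ
    have hsu : f (s * u * s⁻¹) = σ (f u) := M.img_conj hs W.nc.1
    have h := (lifts M).fixA (s * x * s⁻¹) (s * u * s⁻¹) (hA ▸ hπ.conj hs) (conj_sq_one s hx2)
      (M.normal s hs.mem u W.nc.1) (by
        rw [InFix, hsu, ← P_apply, ← hA]
        show σ (π (σ⁻¹ (σ (f u)))) = σ (f u)
        rw [show σ⁻¹ (σ (f u)) = f u by simp, ← M.img_conj hπ W.nc.1, hux])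
    calc x * u = s⁻¹ * (s * x * s⁻¹ * (s * u * s⁻¹)) * s := by group
      _ = s⁻¹ * (s * u * s⁻¹ * (s * x * s⁻¹)) * s := by rw [h]
      _ = u * x := by group
  · obtain ⟨s, hs⟩ := exists_img hσ
    obtain ⟨c, -, hc⟩ := M.class_C C.img C.tt (hC ▸ hπ.conj hs) (conj_sq_one s hx2)
    exact absurd ((hz.trans (isConj_iff.2 ⟨s, rfl⟩)).trans (isConj_iff.2 ⟨c, hc⟩).symm)
      (not_conj_t M C.img C.tt)

end Cfg

end CfsgLib.Small.SuzOrder.Local
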