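import Cfsg.Agent.Lib.Small.SuzTwo.Main
import Cfsg.Agent.Lib.Small.SuzOrder.Local.Data16

/-!
The subgroup of order `2 ^ 10` generated by `C_Q(u)` and the intersection of `C(z)` with the
conjugate of `Q` attached to `u`: squares and commutators in terms of labels in `N × N`.
-/

set_option autoImplicit false
set_option linter.unusedSectionVars false

namespace CfsgLib.Small.SuzOrder.Local

open CfsgLib.Small.SuzTwo Equiv

/-- The element of `⟨z, u⟩` with given exponents. -/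
def R {G : Type*} [Group G] (z u : G) (e : Bool × Bool) : G := zp z e.1 * zp u e.2

/-- An element of `C_Q(u)` with label `a`. -/
def QL {G : Type*} [Group G] (Q : Subgroup G) (f : G → Fin 64) (q : G) (a : Fin 16) : Prop :=
  q ∈ Q ∧ bl (f q) pt = false ∧ pr (f q) = a

/-- An element of `C(z) ∩ gQg⁻¹` with label `b`. -/
def DL {G : Type*} [Group G] {z : G} (Q : Subgroup G) (g : G) (ρ : Cz z →* Perm (Fin 64)) (d : G)
    (b : Fin 16) : Prop :=
  g⁻¹ * d * g ∈ Q ∧ Img ρ d (P (sb b))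

/-- An element with a pair of labels. -/
def Lab {G : Type*} [Group G] {z : G} (Q : Subgroup G) (f : G → Fin 64) (g : G)
    (ρ : Cz z →* Perm (Fin 64)) (x : G) (p : Lb) : Prop :=
  ∃ q d, QL Q f q p.1 ∧ DL Q g ρ d p.2 ∧ x = q * d

theorem P_ap_eq {i j : Ix} (h : nm i = nm j) : P i = P j :=
  Equiv.ext fun v => by rw [P_apply, P_apply, h]

theorem P_mul_eq {i j k : Ix} (h : (nm i).mul (nm j) = nm k) : P i * P j = P k :=
  Equiv.ext fun v => by rw [Perm.mul_apply, P_apply, P_apply, P_apply, ← h, ap_mul]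

theorem P_sb_zero : P (sb 0) = 1 :=
  Equiv.ext fun v => by rw [P_apply, sb_zero, span_basis]; rfl

variable {G : Type*} [Group G] {z u g : G} {Q : Subgroup G} {f : G → Fin 64}
  {ρ : Cz z →* Perm (Fin 64)} (M : Model z Q f ρ) (W : Swap z Q f u g)

section
include W

theorem uu : u * u = 1 := W.nc.2.1

end

section
include M W

theorem uz : u * z = z * u := mem_Cz.1 (M.le W.nc.1)

theorem u_Cz : u ∈ Cz z := M.le W.nc.1

theorem zpu_xor (a b : Bool) : zp u (a ^^ b) = zp u a * zp u b := by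
  cases a <;> cases b <;> simp [zp, uu W]

theorem R_mem_Cz (e : Bool × Bool) : R z u e ∈ Cz z := by
  obtain ⟨i, j⟩ := e
  have hz : z ∈ Cz z := mem_Cz.2 rfl
  cases i <;> cases j <;> simp [R, zp, hz, u_Cz M W, mul_mem]

theorem R_mem_Q (e : Bool × Bool) : R z u e ∈ Q := by
  obtain ⟨i, j⟩ := e
  cases i <;> cases j <;> simp [R, zp, M.z_mem, W.nc.1, mul_mem]

theorem R_comm {x : G} (hz : x * z = z * x) (hu : x * u = u * x) (e : Bool × Bool) :
    x * R z u e = R z u e * x := by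
  obtain ⟨i, j⟩ := e
  have h1 : Commute x (zp z i) := by cases i <;> simp [zp, Commute, SemiconjBy, hz]
  have h2 : Commute x (zp u j) := by cases j <;> simp [zp, Commute, SemiconjBy, hu]
  exact (h1.mul_right h2).eq

theorem R_comm_u (e : Bool × Bool) : R z u e * u = u * R z u e :=
  (R_comm M W (uz M W) rfl e).symm

theorem R_mul (e e' : Bool × Bool) : R z u e * R z u e' = R z u (e.1 ^^ e'.1, e.2 ^^ e'.2) := by
  obtain ⟨i, j⟩ := e
  obtain ⟨i', j'⟩ := e'
  have h : Commute (zp u j) (zp z i') := by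
    cases j <;> cases i' <;> simp [zp, Commute, SemiconjBy, uz M W]
  simp only [R, M.zp_xor, zpu_xor M W]
  calc zp z i * zp u j * (zp z i' * zp u j') = zp z i * (zp u j * zp z i') * zp u j' := by group
    _ = zp z i * zp z i' * (zp u j * zp u j') := by rw [h.eq]; group

omit M W in
theorem R_zero : R z u (false, false) = 1 := by simp [R, zp]

theorem R_sq (e : Bool × Bool) : R z u e * R z u e = 1 := by
  rw [R_mul M W, Bool.xor_self, Bool.xor_self, R_zero]

theorem R_inj {e e' : Bool × Bool} (h : R z u e = R z u e') : e = e' := by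
  have h1 : R z u (e.1 ^^ e'.1, e.2 ^^ e'.2) = 1 := by rw [← R_mul M W, h, R_sq M W]
  have huz : z * u ≠ 1 := fun e => W.nc.2.2.2 (by
    rw [← inv_eq_of_mul_eq_one_right e]; exact M.z_inv)
  obtain ⟨i, j⟩ := e
  obtain ⟨i', j'⟩ := e'
  cases i <;> cases j <;> cases i' <;> cases j' <;>
    simp [R, zp, M.z_ne, W.nc.2.2.1, huz] at h1 ⊢

theorem f_R (e : Bool × Bool) : f (R z u e) = sel e.2 pt := by
  obtain ⟨i, j⟩ := e
  have hz : f (zp z i) = 0 := by cases i <;> simp [zp, M.f_one, M.f_z]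
  have hzQ : zp z i ∈ Q := by cases i <;> simp [zp, M.z_mem]
  have huQ : zp u j ∈ Q := by cases j <;> simp [zp, W.nc.1]
  show f (zp z i * zp u j) = _
  rw [M.f_mul _ hzQ _ huQ, hz, SuzTwo.zero_vadd]
  cases j <;> simp [zp, sel, M.f_one, W.fu]

theorem g_sq : (g * g) * z = z * (g * g) := by
  have h : g * (g * z * g⁻¹) * g⁻¹ = z := by rw [W.gz, Model.swap_gu W]
  calc (g * g) * z = g * (g * z * g⁻¹) * g⁻¹ * (g * g) := by group
    _ = z * (g * g) := by rw [h]

theorem R_conj (e : Bool × Bool) : g⁻¹ * R z u e * g = R z u (e.2, e.1) := by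
  obtain ⟨i, j⟩ := e
  have h1 : g⁻¹ * zp z i * g = zp u i := by cases i <;> simp [zp, W.zg]
  have h2 : g⁻¹ * zp u j * g = zp z j := by cases j <;> simp [zp, Model.swap_ug W]
  have h : Commute (zp u i) (zp z j) := by
    cases i <;> cases j <;> simp [zp, Commute, SemiconjBy, uz M W]
  calc g⁻¹ * (zp z i * zp u j) * g = (g⁻¹ * zp z i * g) * (g⁻¹ * zp u j * g) := by group
    _ = _ := by rw [h1, h2, h.eq]; rfl

theorem R_gQ (e : Bool × Bool) : g⁻¹ * R z u e * g ∈ Q := by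
  rw [R_conj M W]; exact R_mem_Q M W _

/-- `Q ∩ gQg⁻¹ = ⟨z, u⟩`. -/
theorem R0_mem {q : G} (hq : q ∈ Q) (hq' : g⁻¹ * q * g ∈ Q) : ∃ e, q = R z u e := by
  rcases M.R0_f W hq hq' with h | h
  · rcases (M.f_ker q hq).1 h with rfl | rfl
    · exact ⟨(false, false), R_zero.symm⟩
    · exact ⟨(true, false), by simp [R, zp]⟩
  · rcases M.f_eq W.nc.1 hq (W.fu.trans h.symm) with rfl | rfl
    · exact ⟨(false, true), by simp [R, zp]⟩
    · exact ⟨(true, true), by simp [R, zp, uz M W]⟩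

theorem QL.comm_u {q : G} {a : Fin 16} (h : QL Q f q a) : q * u = u * q :=
  ((M.commute_iff h.1 W.nc.1).2 (by rw [W.fu]; exact h.2.1)).symm

theorem QL.inCz {q : G} {a : Fin 16} (h : QL Q f q a) : q ∈ Cz z := M.le h.1

omit W in
theorem QL.mul {q q' : G} {a a' : Fin 16} (h : QL Q f q a) (h' : QL Q f q' a') :
    QL Q f (q * q') (nadd a a') := by
  refine ⟨mul_mem h.1 h'.1, ?_, ?_⟩
  · rw [M.f_mul q h.1 q' h'.1, bl_vadd_left, h.2.1, h'.2.1]; rfl
  · rw [M.f_mul q h.1 q' h'.1, pr_vadd, h.2.2, h'.2.2]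

theorem QL_R (e : Bool × Bool) : QL Q f (R z u e) 0 := by
  refine ⟨R_mem_Q M W e, ?_, ?_⟩ <;> rw [f_R M W] <;> cases e.2 <;> decide

omit W in
theorem exists_QL (a : Fin 16) : ∃ q, QL Q f q a := by
  obtain ⟨q, hq, he⟩ := M.f_surj (em a)
  exact ⟨q, hq, by rw [he]; exact em_perp a, by rw [he, pr_em]⟩

theorem QL.same {q q' : G} {a : Fin 16} (h : QL Q f q a) (h' : QL Q f q' a) :
    ∃ e, q' = q * R z u e := by
  have h1 : QL Q f (q⁻¹ * q') 0 := by
    refine ⟨mul_mem (inv_mem h.1) h'.1, ?_, ?_⟩ <;>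
      rw [M.f_mul _ (inv_mem h.1) _ h'.1, M.f_inv h.1]
    · rw [bl_vadd_left, h.2.1, h'.2.1]; rfl
    · rw [pr_vadd, h.2.2, h'.2.2]; exact (nadd_self a).1
  have hf : f (q⁻¹ * q') = sel ((f (q⁻¹ * q')).val.testBit 1) pt := by
    have h2 := split_perp _ h1.2.1
    rw [h1.2.2] at h2
    exact h2.trans (by rw [show em 0 = 0 from rfl, SuzTwo.zero_vadd])
  suffices he : ∃ e, q⁻¹ * q' = R z u e by
    obtain ⟨e, he⟩ := he
    exact ⟨e, by rw [← he]; group⟩
  cases hb : (f (q⁻¹ * q')).val.testBit 1 <;> rw [hb] at hf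
  · rcases (M.f_ker _ h1.1).1 hf with h2 | h2
    · exact ⟨(false, false), h2.trans R_zero.symm⟩
    · exact ⟨(true, false), h2.trans (by simp [R, zp])⟩
  · rcases M.f_eq W.nc.1 h1.1 (W.fu.trans hf.symm) with h2 | h2
    · exact ⟨(false, true), h2.trans (by simp [R, zp])⟩
    · exact ⟨(true, true), h2.trans (by simp [R, zp, uz M W])⟩

theorem DL.comm_u {d : G} {b : Fin 16} (h : DL Q g ρ d b) : d * u = u * d := M.D_comm_u W h.1

omit M W in
theorem DL.inCz {d : G} {b : Fin 16} (h : DL Q g ρ d b) : d ∈ Cz z := h.2.mem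

omit M W in
theorem DL.mul {d d' : G} {b b' : Fin 16} (h : DL Q g ρ d b) (h' : DL Q g ρ d' b') :
    DL Q g ρ (d * d') (nadd b b') := by
  refine ⟨?_, P_mul_eq (sb_mul b b') ▸ h.2.mul h'.2⟩
  have := mul_mem h.1 h'.1
  rwa [show g⁻¹ * d * g * (g⁻¹ * d' * g) = g⁻¹ * (d * d') * g by group] at this

theorem DL_R (e : Bool × Bool) : DL Q g ρ (R z u e) 0 :=
  ⟨R_gQ M W e, P_sb_zero ▸ M.img_q (R_mem_Q M W e)⟩

theorem DL.same {d d' : G} {b : Fin 16} (h : DL Q g ρ d b) (h' : DL Q g ρ d' b) :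
    ∃ e, d' = d * R z u e := by
  have h1 := h.2.inv.mul h'.2
  rw [inv_mul_cancel] at h1
  have h2 : g⁻¹ * (d⁻¹ * d') * g ∈ Q := by
    have := mul_mem (inv_mem h.1) h'.1
    rwa [show (g⁻¹ * d * g)⁻¹ * (g⁻¹ * d' * g) = g⁻¹ * (d⁻¹ * d') * g by group] at this
  obtain ⟨e, he⟩ := R0_mem M W (M.img_one_mem h1) h2
  exact ⟨e, by rw [← he]; group⟩

theorem exists_DL (b : Fin 16) : ∃ d, DL Q g ρ d b := by
  by_cases hb : b = 0
  · exact ⟨R z u (false, false), hb ▸ DL_R M W _⟩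
  obtain ⟨w, hw, h1, h2⟩ := sb_kind b hb
  obtain ⟨a, ha, ha', -⟩ := M.exists_DA W
  obtain ⟨c, hc, hc', -⟩ := M.exists_DC W
  cases hn : nq b <;> rw [hn] at h2
  · obtain ⟨y, hy, hy', -⟩ := (M.D_move W hw ha').2 (h2.symm ▸ ha)
    exact ⟨y, hy', h1 ▸ hy⟩
  · obtain ⟨y, hy, hy', -⟩ := (M.D_move W hw hc').2 (h2.symm ▸ hc)
    exact ⟨y, hy', h1 ▸ hy⟩

theorem sq_R_mul {x : G} (hz : x * z = z * x) (hu : x * u = u * x) (e : Bool × Bool) :
    x * R z u e * (x * R z u e) = x * x := by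
  calc x * R z u e * (x * R z u e) = x * (R z u e * x) * R z u e := by group
    _ = x * x * (R z u e * R z u e) := by rw [← R_comm M W hz hu e]; group
    _ = x * x := by rw [R_sq M W, mul_one]

theorem QL.sq {q : G} {a : Fin 16} (h : QL Q f q a) : q * q = R z u (nq a, false) := by
  rw [M.sq_zp h.1, qb_pr _ h.2.1, h.2.2]
  simp [R, zp]

theorem DL.sq {d : G} {b : Fin 16} (h : DL Q g ρ d b) : d * d = R z u (false, nq b) := by
  have hz := mem_Cz.1 h.inCz
  have hu := h.comm_u M W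
  by_cases hb : b = 0
  · obtain ⟨e, rfl⟩ := (DL_R M W (false, false)).same M W (hb ▸ h)
    rw [R_zero, one_mul, R_sq M W, hb, show nq 0 = false from rfl, R_zero]
  obtain ⟨w, hw, h1, h2⟩ := sb_kind b hb
  cases hn : nq b <;> rw [hn] at h2
  · obtain ⟨a, ha, ha', ha2⟩ := M.exists_DA W
    obtain ⟨y, hy, hy', hy2⟩ := (M.D_move W hw ha').2 (h2.symm ▸ ha)
    have hy0 : DL Q g ρ y b := ⟨hy', h1 ▸ hy⟩
    obtain ⟨e, rfl⟩ := hy0.same M W h
    rw [sq_R_mul M W (mem_Cz.1 hy0.inCz) (hy0.comm_u M W), hy2 ha2, R_zero]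
  · have hne : d * d ≠ 1 := fun e => by
      obtain ⟨y, hy, hy', hy2⟩ := (M.D_move W hw h.1).1 (h1.symm ▸ h.2)
      have h2' : w.2.1 = ixC := h2.trans (by simp)
      exact M.D_not_C W (h2' ▸ hy) hy' (hy2 e)
    have hs := M.sq_zp h.1
    have hd : d * d = g * (g⁻¹ * d * g * (g⁻¹ * d * g)) * g⁻¹ := by group
    rw [hs] at hd
    cases hq : qb (f (g⁻¹ * d * g)) <;> rw [hq] at hd
    · exact absurd (by rw [hd]; simp [zp]) hne
    · rw [hd, zp_true, W.gz]; simp [R, zp]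

theorem QL.comm_QL {q r : G} {a b : Fin 16} (h : QL Q f q a) (h' : QL Q f r b) :
    r * q = R z u (nb a b, false) * (q * r) := by
  rw [M.comm h.1 h'.1, bl_pr _ _ h.2.1 h'.2.1, h.2.2, h'.2.2]
  simp [R, zp]

theorem DL.comm_DL {d e : G} {a b : Fin 16} (h : DL Q g ρ d a) (h' : DL Q g ρ e b) :
    e * d = R z u (false, nb a b) * (d * e) := by
  have hinv : ∀ {x : G} {c : Fin 16}, DL Q g ρ x c → x⁻¹ = R z u (false, nq c) * x := by
    intro x c hx
    rw [← hx.sq M W]
    have hs : x * x * (x * x) = 1 := by rw [hx.sq M W, R_sq M W]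
    apply inv_eq_of_mul_eq_one_right
    rw [show x * (x * x * x) = x * x * (x * x) by group, hs]
  have h1 : e * d = d⁻¹ * (d * e * (d * e)) * e⁻¹ := by group
  have hc : d * R z u (false, nq (nadd a b)) = R z u (false, nq (nadd a b)) * d :=
    R_comm M W (mem_Cz.1 h.inCz) (h.comm_u M W) _
  have hc' : d * R z u (false, nq b) = R z u (false, nq b) * d :=
    R_comm M W (mem_Cz.1 h.inCz) (h.comm_u M W) _
  rw [h1, (h.mul h').sq M W, hinv h, hinv h']
  calc R z u (false, nq a) * d * R z u (false, nq (nadd a b)) * (R z u (false, nq b) * e)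
      = R z u (false, nq a) * (d * R z u (false, nq (nadd a b))) * R z u (false, nq b) * e := by
        group
    _ = R z u (false, nq a) * R z u (false, nq (nadd a b)) * (d * R z u (false, nq b)) * e := by
        rw [hc]; group
    _ = R z u (false, nq a) * R z u (false, nq (nadd a b)) * R z u (false, nq b) * (d * e) := by
        rw [hc']; group
    _ = _ := by
        rw [R_mul M W, R_mul M W, nq_add]
        cases nq a <;> cases nq b <;> cases nb a b <;> rfl

end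

end CfsgLib.Small.SuzOrder.Local
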