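import Cfsg.Agent.Lib.Small.SuzOrder.Local.KModel

/-!
The commutator between `C_Q(u)` and its conjugate: it is given by the bilinear form of the labels.
-/

set_option autoImplicit false
set_option linter.unusedSectionVars false

namespace CfsgLib.Small.SuzOrder.Local

open CfsgLib.Small.SuzTwo Equiv

/-- A lifted element of the stabiliser of `u`. -/
structure Mv {G : Type*} [Group G] {z : G} (u : G) (ρ : Cz z →* Perm (Fin 64)) (i : Ix) (c : G) :
    Prop where
  img : Img ρ c (P i)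
  fix : c * u = u * c

variable {G : Type*} [Group G] {z u g : G} {Q : Subgroup G} {f : G → Fin 64}
  {ρ : Cz z →* Perm (Fin 64)} (M : Model z Q f ρ) (W : Swap z Q f u g)

include M W

theorem exists_Mv {i : Ix} (hi : i ∈ stabIx) : ∃ c, Mv u ρ i c := by
  obtain ⟨c, hc, hcu⟩ := M.lift_fix W.nc.1 (W.fu ▸ pt_facts.2) (i := i)
    (by rw [W.fu]; exact stab_pt i hi)
  exact ⟨c, hc, hcu⟩

theorem Mv.QL {i : Ix} (hi : i ∈ stabIx) {c q : G} {a : Fin 16} (hc : Mv u ρ i c)
    (h : QL Q f q a) : QL Q f (c * q * c⁻¹) (phi i a) := by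
  obtain ⟨h1, h2⟩ := stab_pr i hi (f q) h.2.1
  refine ⟨M.normal c hc.img.mem q h.1, ?_, ?_⟩ <;> rw [M.img_conj hc.img h.1, P_apply]
  · exact h1
  · rw [h2, h.2.2]

theorem Mv.DL {i : Ix} (hi : i ∈ stabIx) {c d : G} {b : Fin 16} (hc : Mv u ρ i c)
    (h : DL Q g ρ d b) : DL Q g ρ (c * d * c⁻¹) (phi i b) := by
  refine ⟨?_, ?_⟩
  · have h1 := M.normal _ (Model.conj_mem_Cz W hc.fix) _ h.1
    rwa [show g⁻¹ * c * g * (g⁻¹ * d * g) * (g⁻¹ * c * g)⁻¹ = g⁻¹ * (c * d * c⁻¹) * g by group]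
      at h1
  · have he : P (sb (phi i b)) = P i * P (sb b) * (P i)⁻¹ := by
      rw [eq_mul_inv_iff_mul_eq]
      exact Equiv.ext fun v => by simp only [Perm.mul_apply, P_apply, ← ap_mul, stab_sb i hi b]
    rw [he]
    exact h.2.conj hc.img

theorem Mv.R {i : Ix} {c : G} (hc : Mv u ρ i c) (e : Bool × Bool) :
    c * R z u e * c⁻¹ = R z u e := by
  rw [R_comm M W (mem_Cz.1 hc.img.mem) hc.fix e, mul_inv_cancel_right]

/-- The commutator of elements with labels `a`, `b` has `z`-exponent `i`. -/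
def ZExp (z u g : G) (Q : Subgroup G) (f : G → Fin 64) (ρ : Cz z →* Perm (Fin 64)) (a b : Fin 16)
    (i : Bool) : Prop :=
  ∀ q d, Local.QL Q f q a → Local.DL Q g ρ d b →
    d * q = Local.R z u (i, nb a b) * (q * d)

theorem exists_ZExp (a b : Fin 16) : ∃ i, ZExp z u g Q f ρ a b i := by
  obtain ⟨q, hq⟩ := exists_QL M a
  obtain ⟨d, hd⟩ := exists_DL M W b
  have hcQ : d * q * d⁻¹ * q⁻¹ ∈ Q := mul_mem (M.normal d hd.inCz q hq.1) (inv_mem hq.1)
  have hcD : g⁻¹ * (d * q * d⁻¹ * q⁻¹) * g ∈ Q := by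
    have h := mul_mem hd.1 (M.normal _ (Model.conj_mem_Cz W (hq.comm_u M W)) _ (inv_mem hd.1))
    rwa [show g⁻¹ * d * g * (g⁻¹ * q * g * (g⁻¹ * d * g)⁻¹ * (g⁻¹ * q * g)⁻¹) =
      g⁻¹ * (d * q * d⁻¹ * q⁻¹) * g by group] at h
  obtain ⟨⟨i, j⟩, he⟩ := R0_mem M W hcQ hcD
  have hj : j = nb a b := by
    have h1 := congrArg f he
    rw [f_R M W, M.f_mul _ (M.normal d hd.inCz q hq.1) _ (inv_mem hq.1), M.f_inv hq.1,
      M.img_conj hd.2 hq.1, P_apply, sb_act b _ hq.2.1, hq.2.2, vadd_comm_all (f q),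
      vadd_assoc_all, SuzTwo.vadd_self, SuzTwo.vadd_zero] at h1
    exact ((show ∀ x y : Bool, sel x pt = sel y pt → x = y by decide) _ _ h1).symm
  subst hj
  refine ⟨i, fun q' d' hq' hd' => ?_⟩
  obtain ⟨e, rfl⟩ := hq.same M W hq'
  obtain ⟨e', rfl⟩ := hd.same M W hd'
  have cq : ∀ x, q * Local.R z u x = Local.R z u x * q :=
    R_comm M W (mem_Cz.1 (hq.inCz M W)) (hq.comm_u M W)
  have cd : ∀ x, d * Local.R z u x = Local.R z u x * d :=
    R_comm M W (mem_Cz.1 hd.inCz) (hd.comm_u M W)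
  have cR : ∀ x y, Local.R z u x * Local.R z u y = Local.R z u y * Local.R z u x := fun x y => by
    rw [R_mul M W, R_mul M W, Bool.xor_comm x.1, Bool.xor_comm x.2]
  have hdq : d * q = Local.R z u (i, nb a b) * (q * d) := by rw [← he]; group
  have key : d * q * (Local.R z u e' * Local.R z u e) =
      Local.R z u (i, nb a b) * (q * d * (Local.R z u e * Local.R z u e')) := by
    rw [hdq, cR e' e]; group
  calc d * Local.R z u e' * (q * Local.R z u e) = d * (Local.R z u e' * q) * Local.R z u e := by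
        group
    _ = d * q * (Local.R z u e' * Local.R z u e) := by rw [← cq]; group
    _ = Local.R z u (i, nb a b) * (q * d * (Local.R z u e * Local.R z u e')) := key
    _ = Local.R z u (i, nb a b) * (q * (d * Local.R z u e) * Local.R z u e') := by group
    _ = _ := by rw [cd]; group

theorem ZExp.unique {a b : Fin 16} {i j : Bool} (h : ZExp z u g Q f ρ a b i)
    (h' : ZExp z u g Q f ρ a b j) : i = j := by
  obtain ⟨q, hq⟩ := exists_QL M a
  obtain ⟨d, hd⟩ := exists_DL M W b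
  exact congrArg Prod.fst (R_inj M W (mul_right_cancel ((h q d hq hd).symm.trans (h' q d hq hd))))

theorem ZExp.add_left {a a' b : Fin 16} {i i' : Bool} (h : ZExp z u g Q f ρ a b i)
    (h' : ZExp z u g Q f ρ a' b i') : ZExp z u g Q f ρ (nadd a a') b (i ^^ i') := by
  intro q'' d hq'' hd
  obtain ⟨q, hq⟩ := exists_QL M a
  obtain ⟨q', hq'⟩ := exists_QL M a'
  obtain ⟨e, rfl⟩ := (hq.mul M hq').same M W hq''
  have cd := R_comm M W (mem_Cz.1 hd.inCz) (hd.comm_u M W)
  have cq := R_comm M W (mem_Cz.1 (hq.inCz M W)) (hq.comm_u M W)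
  calc d * (q * q' * Local.R z u e) = d * q * q' * Local.R z u e := by group
    _ = Local.R z u (i, nb a b) * q * (d * q') * Local.R z u e := by rw [h q d hq hd]; group
    _ = Local.R z u (i, nb a b) * (q * Local.R z u (i', nb a' b)) * q' * (d * Local.R z u e) := by
        rw [h' q' d hq' hd]; group
    _ = Local.R z u (i, nb a b) * Local.R z u (i', nb a' b) * (q * q' * Local.R z u e * d) := by
        rw [cq, cd]; group
    _ = _ := by rw [R_mul M W, nb_add_left]

theorem ZExp.add_right {a b b' : Fin 16} {i i' : Bool} (h : ZExp z u g Q f ρ a b i)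
    (h' : ZExp z u g Q f ρ a b' i') : ZExp z u g Q f ρ a (nadd b b') (i ^^ i') := by
  intro q d'' hq hd''
  obtain ⟨d, hd⟩ := exists_DL M W b
  obtain ⟨d', hd'⟩ := exists_DL M W b'
  obtain ⟨e, rfl⟩ := (hd.mul hd').same M W hd''
  have cd := R_comm M W (mem_Cz.1 hd.inCz) (hd.comm_u M W)
  have cq := R_comm M W (mem_Cz.1 (hq.inCz M W)) (hq.comm_u M W)
  calc d * d' * Local.R z u e * q = d * d' * (Local.R z u e * q) := by group
    _ = d * (d' * q) * Local.R z u e := by rw [← cq]; group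
    _ = d * Local.R z u (i', nb a b') * (q * d') * Local.R z u e := by rw [h' q d' hq hd']; group
    _ = Local.R z u (i', nb a b') * (d * q) * d' * Local.R z u e := by rw [cd]; group
    _ = Local.R z u (i', nb a b') * Local.R z u (i, nb a b) * (q * (d * d' * Local.R z u e)) := by
        rw [h q d hq hd]; group
    _ = _ := by rw [R_mul M W, nb_add_right, Bool.xor_comm i', Bool.xor_comm (nb a b')]

theorem ZExp.move {a b : Fin 16} {i : Bool} {k : Ix} (hk : k ∈ stabIx)
    (h : ZExp z u g Q f ρ a b i) : ZExp z u g Q f ρ (phi k a) (phi k b) i := by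
  intro q' d' hq' hd'
  obtain ⟨c, hc⟩ := exists_Mv M W hk
  obtain ⟨q, hq⟩ := exists_QL M a
  obtain ⟨d, hd⟩ := exists_DL M W b
  obtain ⟨j, hj⟩ := exists_ZExp M W (phi k a) (phi k b)
  have h1 := hj _ _ (hc.QL M W hk hq) (hc.DL M W hk hd)
  have h2 := h q d hq hd
  have h3 : c * d * c⁻¹ * (c * q * c⁻¹) =
      Local.R z u (i, nb a b) * (c * q * c⁻¹ * (c * d * c⁻¹)) := by
    calc c * d * c⁻¹ * (c * q * c⁻¹) = c * (d * q) * c⁻¹ := by group
      _ = c * Local.R z u (i, nb a b) * c⁻¹ * (c * (q * d) * c⁻¹) := by rw [h2]; group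
      _ = _ := by rw [hc.R M W]; group
  have h4 := congrArg Prod.fst (R_inj M W (mul_right_cancel (h3.symm.trans h1)))
  exact (show i = j from h4) ▸ hj q' d' hq' hd'

theorem ZExp.zero_right (a : Fin 16) : ZExp z u g Q f ρ a 0 false := by
  intro q d hq hd
  obtain ⟨e, rfl⟩ := (DL_R M W (false, false)).same M W hd
  rw [R_zero, one_mul, (nb_zero a).2, R_zero, one_mul,
    R_comm M W (mem_Cz.1 (hq.inCz M W)) (hq.comm_u M W)]

theorem ZExp.zero_left (b : Fin 16) : ZExp z u g Q f ρ 0 b false := by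
  intro q d hq hd
  obtain ⟨e, rfl⟩ := (QL_R M W (false, false)).same M W hq
  rw [R_zero, one_mul, (nb_zero b).1, R_zero, one_mul,
    R_comm M W (mem_Cz.1 hd.inCz) (hd.comm_u M W)]

/-- The commutator of elements with labels `a` and `b` is `(zu)^(a, b)`. -/
theorem comm_DQ {q d : G} {a b : Fin 16} (hq : Local.QL Q f q a) (hd : Local.DL Q g ρ d b) :
    d * q = Local.R z u (nb a b, nb a b) * (q * d) := by
  classical
  choose β hβ using exists_ZExp M W (g := g) (ρ := ρ) (f := f) (Q := Q) (z := z) (u := u)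
  have hlin : ∀ b, β 1 b = lin (β 1 1) (β 1 2) (β 1 4) (β 1 8) b := by
    intro b
    have hadd : ∀ x y, β 1 (nadd x y) = (β 1 x ^^ β 1 y) := fun x y =>
      (hβ 1 (nadd x y)).unique M W ((hβ 1 x).add_right M W (hβ 1 y))
    have h0 : β 1 0 = false := (hβ 1 0).unique M W (ZExp.zero_right M W 1)
    have he : ∀ b : Fin 16, b = nadd (nadd (if b.val.testBit 0 then 1 else 0)
        (if b.val.testBit 1 then 2 else 0)) (nadd (if b.val.testBit 2 then 4 else 0)
        (if b.val.testBit 3 then 8 else 0)) := by decide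
    conv_lhs => rw [he b]
    rw [hadd, hadd, hadd, lin]
    cases b.val.testBit 0 <;> cases b.val.testBit 1 <;> cases b.val.testBit 2 <;>
      cases b.val.testBit 3 <;> simp [h0]
  have hinv : ∀ k ∈ stabIx, phi k 1 = 1 → ∀ b, β 1 (phi k b) = β 1 b := by
    intro k hk h1 b
    have h2 := (hβ 1 b).move M W hk
    rw [h1] at h2
    exact (hβ 1 _).unique M W h2
  obtain ⟨g30, g92, g96, g58, g111⟩ := stab_gens
  have hone : ∀ b, β 1 b = (β 1 4 && nb 1 b) := by
    intro b
    rw [hlin b]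
    exact fun_inv _ _ _ _
      (fun c => by rw [← hlin, ← hlin]; exact hinv 30 (by decide) g30 c)
      (fun c => by rw [← hlin, ← hlin]; exact hinv 92 (by decide) g92 c) b
  let Ok : Fin 16 → Prop := fun a => ∀ b, β a b = (β 1 4 && nb a b)
  have hadd : ∀ x y, Ok x → Ok y → Ok (nadd x y) := by
    intro x y hx hy b
    rw [(hβ _ b).unique M W ((hβ x b).add_left M W (hβ y b)), hx b, hy b, nb_add_left]
    cases β 1 4 <;> simp
  have h0 : Ok 0 := fun b => by
    rw [(hβ 0 b).unique M W (ZExp.zero_left M W b), (nb_zero b).1, Bool.and_false]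
  have hmv : ∀ k ∈ stabIx, Ok (phi k 1) := by
    intro k hk b
    obtain ⟨c, rfl⟩ := stab_surj k hk b
    rw [← (hβ _ _).unique M W ((hβ 1 c).move M W hk) |>.symm, hone c, stab_form k hk]
  have h4 : Ok 4 := g96 ▸ hmv 96 (by decide)
  have h3 : Ok 3 := g58 ▸ hmv 58 (by decide)
  have h9 : Ok 9 := g111 ▸ hmv 111 (by decide)
  have hall : ∀ a, Ok a := by
    intro a
    obtain ⟨c1, c4, c3, c9, rfl⟩ := span_four a
    refine hadd _ _ (hadd _ _ ?_ ?_) (hadd _ _ ?_ ?_)
    · cases c1 <;> [exact h0; exact hone]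
    · cases c4 <;> [exact h0; exact h4]
    · cases c3 <;> [exact h0; exact h3]
    · cases c9 <;> [exact h0; exact h9]
  have hε : β 1 4 = true := by
    by_contra hε
    rw [Bool.not_eq_true] at hε
    have hzero : ∀ a b, β a b = false := fun a b => by rw [hall a b, hε, Bool.false_and]
    obtain ⟨q1, hq1⟩ := exists_QL M (1 : Fin 16)
    obtain ⟨d4, hd4⟩ := exists_DL M W (4 : Fin 16)
    have h14 := hβ 1 4 q1 d4 hq1 hd4
    rw [hzero, nb_one_four] at h14
    -- conjugate back by the exchanging element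
    set d' := g⁻¹ * q1 * g with hd'def
    set q' := g⁻¹ * d4 * g with hq'def
    have hq'1 : q' ∈ Q := hd4.1
    have hq'u : q' * u = u * q' := by
      have e := mem_Cz.1 hd4.inCz
      rw [← W.zg]
      calc g⁻¹ * d4 * g * (g⁻¹ * z * g) = g⁻¹ * (d4 * z) * g := by group
        _ = g⁻¹ * (z * d4) * g := by rw [e]
        _ = g⁻¹ * z * g * (g⁻¹ * d4 * g) := by group
    have hqL : Local.QL Q f q' (pr (f q')) := ⟨hq'1, by
      have h := (M.commute_iff hq'1 W.nc.1).1 hq'u.symm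
      rwa [W.fu] at h, rfl⟩
    have hd'C : d' ∈ Cz z := Model.conj_mem_Cz W (hq1.comm_u M W)
    have hd'Q : g⁻¹ * d' * g ∈ Q := by
      have hgg : (g * g)⁻¹ ∈ Cz z := inv_mem (mem_Cz.2 (g_sq M W))
      have h := M.normal _ hgg q1 hq1.1
      rwa [show (g * g)⁻¹ * q1 * (g * g)⁻¹⁻¹ = g⁻¹ * d' * g by
        simp only [hd'def, mul_inv_rev, inv_inv, mul_assoc]] at h
    obtain ⟨s, hs, hsP⟩ := M.D_siegel W (Img.mk' (ρ := ρ) hd'C) hd'Q
    obtain ⟨b', hb'⟩ := siegel_sb s hs
    have hdL : Local.DL Q g ρ d' b' := ⟨hd'Q, by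
      rw [← P_ap_eq hb', ← hsP]; exact Img.mk' hd'C⟩
    have h5 := hβ _ _ q' d' hqL hdL
    rw [hzero] at h5
    have h6 : q' * d' = Local.R z u (true, false) * (d' * q') := by
      calc q' * d' = g⁻¹ * (d4 * q1) * g := by rw [hd'def, hq'def]; group
        _ = g⁻¹ * Local.R z u (false, true) * g * (g⁻¹ * (q1 * d4) * g) := by rw [h14]; group
        _ = Local.R z u (true, false) * (d' * q') := by rw [R_conj M W, hd'def, hq'def]; group
    rw [h6, ← mul_assoc (R z u (false, _)) (R z u _) (d' * q'), R_mul M W] at h5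
    have h7 := R_inj M W (mul_eq_right.1 h5.symm |>.trans R_zero.symm)
    simp at h7
  have := hβ a b q d hq hd
  rwa [hall a b, hε, Bool.true_and] at this

end CfsgLib.Small.SuzOrder.Local
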