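import Cfsg.Agent.Lib.Small.SuzOrder.Local.Data16

/-!
The finite checks on labels behind the local data at a pair of involutions.
-/

set_option autoImplicit false
set_option maxRecDepth 100000
set_option maxHeartbeats 0

namespace CfsgLib.Small.SuzOrder.Local

open CfsgLib.Small.SuzTwo

/-- The label `(4, 1)`. -/
def tLb : Lb := (4, 1)

/-- The labels commuting with `(4, 1)`. -/
def U0 : Finset Lb := Finset.univ.filter fun p => lc tLb p = (false, false)

/-- The labels of the span of the conjugates of `z`. -/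
def US : Finset Lb := U0.filter fun p => p.1 &&& 5 = 0 ∧ p.2 &&& 5 = 0

/-- The labels of the two elementary subgroups. -/
def UA (i : Fin 2) : Finset Lb :=
  U0.filter fun p => p.1 &&& (if i = 0 then 8 else 2) = 0 ∧ p.2 &&& (if i = 0 then 8 else 2) = 0

/-- The labels of the centre of the centraliser of `(4, 1)`. -/
def UZ : Finset Lb := U0.filter fun p => ∀ r ∈ U0, lc p r = (false, false)

/-- The action of the outer element on labels. -/
def sigma (p : Lb) : Lb := (phi 92 (nadd p.1 p.2), phi 92 p.2)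

theorem card_sets : U0.card = 64 ∧ US.card = 16 ∧ UZ.card = 4 ∧ (∀ i, (UA i).card = 16) ∧
    (∀ i, ((UA i).filter fun p => p ∈ US).card = 4) ∧
    (US.filter fun p => lq p = (false, false)).card = 7 ∧
    ((US ×ˢ US).filter fun x => lq x.1 = (false, false) ∧ lq x.2 = (false, false) ∧
      lq (ladd x.1 x.2) = (true, false)).card = 6 := by
  decide +kernel

theorem U0_add : ∀ p ∈ U0, ∀ r ∈ U0, ladd p r ∈ U0 := by
  intro p hp r hr
  simp only [U0, Finset.mem_filter, Finset.mem_univ, true_and, lc, Prod.mk.injEq] at hp hr ⊢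
  simp only [ladd, nb_add_right, nb_add_left]
  revert hp hr
  generalize nb tLb.1 p.1 = a1
  generalize nb tLb.1 r.1 = b1
  generalize nb tLb.1 p.2 = a2
  generalize nb tLb.1 r.2 = b2
  generalize nb p.1 tLb.2 = a3
  generalize nb r.1 tLb.2 = b3
  generalize nb tLb.2 p.2 = a4
  generalize nb tLb.2 r.2 = b4
  revert a1 b1 a2 b2 a3 b3 a4 b4
  decide

theorem US_add : ∀ p ∈ US, ∀ r ∈ US, ladd p r ∈ US := by decide +kernel

theorem UA_add : ∀ i, ∀ p ∈ UA i, ∀ r ∈ UA i, ladd p r ∈ UA i := by decide +kernel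

theorem zero_mem : (0, 0) ∈ U0 ∧ (0, 0) ∈ US ∧ (0, 0) ∈ UZ ∧ tLb ∈ U0 ∧ ∀ i, (0, 0) ∈ UA i := by
  decide +kernel

theorem UZ_add : ∀ p ∈ UZ, ∀ r ∈ UZ, ladd p r ∈ UZ := by decide +kernel

theorem UZ_sq : ∀ p ∈ UZ, lq p = (false, false) := by decide +kernel

theorem US_center : ∀ p ∈ US, (∀ r ∈ US, lc p r = (false, false)) → p = (0, 0) := by decide +kernel

theorem US_type : ∀ p ∈ US, lq p = (false, false) → nq p.2 = false := by decide +kernel

theorem z_type_US : ∀ p ∈ U0, lq p = (false, false) → nq p.2 = false → p ∈ US := by decide +kernel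

theorem US_gen : ∀ p ∈ US, ∃ x ∈ US, ∃ y ∈ US, lq x = (false, false) ∧ lq y = (false, false) ∧
    p = ladd x y := by
  decide +kernel

theorem UA_sub : ∀ i, (∀ p ∈ UA i, p ∈ U0 ∧ lq p = (false, false)) ∧
    ∀ p ∈ UA i, ∀ r ∈ UA i, lc p r = (false, false) := by
  decide +kernel

theorem UA_ne : ∃ p ∈ UA 0, p ∉ UA 1 := by decide +kernel

theorem UA_inter : ((UA 0).filter fun p => p ∈ UA 1).card = 4 := by decide +kernel

theorem UA_cover : ∀ p ∈ U0, lq p = (false, false) → p ∈ UA 0 ∨ p ∈ UA 1 := by decide +kernel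

theorem UA_split : ∀ p ∈ UA 1, ∀ r ∈ UA 0, lc p r = (false, false) → p ∈ UA 0 ∨ r ∈ UA 1 := by
  decide +kernel

theorem UA_cent : ∀ i, ∀ p ∈ UA i, p ∈ US → p ≠ (0, 0) → ∀ r ∈ U0,
    lc p r = (false, false) → r ∈ UA i := by
  decide +kernel

theorem sigma_swap : (∀ p ∈ UA 0, sigma p ∈ UA 1) ∧ ∀ p ∈ UA 1, sigma p ∈ UA 0 := by decide +kernel

theorem sigma_center : ∀ p ∈ UZ, sigma p = p → p = (0, 0) ∨ p = tLb := by decide +kernel

theorem sigma_outer : ∀ p ∈ US, lq p = (false, false) → sigma p = p → p = (0, 0) := by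
  decide +kernel

theorem sigma_four : (10, 0) ∈ US ∧ sigma (10, 0) = (10, 0) ∧ lq (10, 0) = (true, false) := by
  decide +kernel

theorem lc_onto : ∀ e : Bool × Bool, ∃ p : Lb, lc tLb p = e := by decide +kernel

theorem nb_comm : ∀ a b : Fin 16, nb a b = nb b a := by decide +kernel

theorem lc_symm : ∀ p r : Lb, lc p r = lc r p := by
  intro p r
  simp only [lc, nb_comm p.1 r.1, nb_comm p.2 r.2]
  cases nb r.1 p.1 <;> cases nb r.2 p.2 <;> cases nb p.1 r.2 <;> cases nb r.1 p.2 <;> rfl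

theorem ladd_cases : ∀ p : Lb, ladd p (0, 0) = p ∧ ladd (0, 0) p = p ∧ ladd p p = (0, 0) := by
  decide +kernel

theorem sigma_t : phi 92 (nadd 4 1) = 4 ∧ phi 92 1 = 1 ∧ pr 16 = 0 ∧ bl 16 pt = true := by
  decide +kernel

theorem small_probe : (2, 0) ∈ U0 ∧ (8, 0) ∈ U0 ∧ ∀ v, InFix ixC v → qb v = false →
    nb (pr v) 2 = false → nb (pr v) 8 = false → v = 0 ∨ v = pt := by
  decide +kernel

theorem nb_one : ∀ a, (∀ b, nb a b = nb 1 b) → a = 1 := by decide +kernel

theorem stab_images : ∀ v, bl v pt = false → qb v = false → v ≠ 0 → v ≠ pt →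
    nb (pr v) 4 = false → nb (pr v) 1 = false → pr v = 2 ∨ pr v = 8 := by
  decide +kernel

theorem pr_small : pr 1 = 1 ∧ pr 4 = 2 ∧ pr 8 = 4 ∧ pr 32 = 8 := by decide +kernel

/-- The transvection exchanging `4` and `32`. -/
def tauFun (v : Fin 64) : Fin 64 := vadd v (sel (bl v 36) 36)

theorem tau_facts : (∀ v, tauFun (tauFun v) = v) ∧ (∀ v, qb (tauFun v) = qb v) ∧
    (∀ v w, tauFun (vadd v w) = vadd (tauFun v) (tauFun w)) ∧ tauFun 1 = 1 ∧ tauFun 2 = 2 ∧
    tauFun 4 = 32 ∧ tauFun 8 = 8 ∧ tauFun 32 = 4 ∧ tauFun 4 ≠ 4 := by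
  decide +kernel

theorem no_transvection : ∀ i : Ix, (i = ixA ∨ i = ixC) → ∀ w : Fin 64,
    ∃ v, vadd v ((nm i).ap v) ≠ 0 ∧ vadd v ((nm i).ap v) ≠ w := by
  decide +kernel

end CfsgLib.Small.SuzOrder.Local
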