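import Cfsg.Agent.Lib.Small.SuzOrder.Local.Label
import Cfsg.Agent.Lib.Small.SuzOrder.Local.Tables

/-!
The centraliser of `z`, `u` and `t` lies in the group of order `2 ^ 10`, and some element of
`C(z) ∩ C(t)` moves `u` to `zu`.
-/

set_option autoImplicit false
set_option linter.unusedSectionVars false

namespace CfsgLib.Small.SuzOrder.Local

open CfsgLib.Small.SuzTwo Equiv

/-- The transvection exchanging `4` and `32`, as a permutation. -/
def tau : Perm (Fin 64) := Function.Involutive.toPerm tauFun tau_facts.1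

theorem tau_apply (v : Fin 64) : tau v = tauFun v := rfl

theorem tau_mem : tau ∈ O := ⟨fun v w => tau_facts.2.2.1 v w, fun v => tau_facts.2.1 v⟩

variable {G : Type*} [Group G] {z u g : G} {Q : Subgroup G} {f : G → Fin 64}
  {ρ : Cz z →* Perm (Fin 64)} (M : Model z Q f ρ) (W : Swap z Q f u g)

include M W

theorem tau_not_mem : tau ∉ ρ.range := by
  intro h
  have h2 : tau * tau = 1 := Equiv.ext tau_facts.1
  have h1 : tau ≠ 1 := fun e => tau_facts.2.2.2.2.2.2.2.2 (by
    rw [← tau_apply, e]; rfl)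
  obtain ⟨σ, hσ, hc⟩ := invol_conj M.range_le M.ρ_card h h2 h1
  have hσO := M.range_le hσ
  have key : ∀ i : Ix, (i = ixA ∨ i = ixC) → σ * tau * σ⁻¹ ≠ P i := by
    intro i hi e
    obtain ⟨v, hv0, hvw⟩ := no_transvection i hi (σ 36)
    have hv : vadd v ((nm i).ap v) = σ (sel (bl (σ⁻¹ v) 36) 36) := by
      rw [← P_apply, ← e, Perm.mul_apply, Perm.mul_apply, tau_apply, tauFun, O_add hσO]
      nth_rw 1 [show v = σ (σ⁻¹ v) by simp]
      rw [← O_add hσO, ← O_add hσO, vadd_cancel]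
    cases hb : bl (σ⁻¹ v) 36
    · exact hv0 (by rw [hv, hb]; exact O_zero hσO)
    · exact hvw (by rw [hv, hb]; rfl)
  rcases hc with e | e
  · exact key _ (Or.inl rfl) e
  · exact key _ (Or.inr rfl) e

/-- An element centralising `z`, `u` and an element with label `(4, 1)` has a label. -/
theorem stab_Lab {x t : G} (ht : Lab Q f g ρ t tLb) (hx : x ∈ Cz z) (hxu : x * u = u * x)
    (hxt : x * t = t * x) : ∃ p, Lab Q f g ρ x p := by
  set π := ρ ⟨x, hx⟩ with hπdef
  have hI : Img ρ x π := Img.mk' hx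
  have hO := M.img_O hI
  have hpt : π pt = pt := by
    rw [← W.fu, ← M.img_conj hI W.nc.1, hxu, mul_inv_cancel_right]
  have hperp : ∀ v, bl v pt = false → bl (π v) pt = false := fun v hv => by
    rw [← hv, ← O_bl hO v pt, hpt]
  obtain ⟨q, d, hq, hd, rfl⟩ := ht
  have hxq : QL Q f (x * q * x⁻¹) (pr (π (f q))) :=
    ⟨M.normal x hx q hq.1, by rw [M.img_conj hI hq.1]; exact hperp _ hq.2.1,
      by rw [M.img_conj hI hq.1]⟩
  have hxdQ : g⁻¹ * (x * d * x⁻¹) * g ∈ Q := by
    have h1 := M.normal _ (Model.conj_mem_Cz W hxu) _ hd.1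
    rwa [show g⁻¹ * x * g * (g⁻¹ * d * g) * (g⁻¹ * x * g)⁻¹ = g⁻¹ * (x * d * x⁻¹) * g by group]
      at h1
  have hxdI := hd.2.conj hI
  obtain ⟨s, hs, hsP⟩ := M.D_siegel W hxdI hxdQ
  obtain ⟨b', hb'⟩ := siegel_sb s hs
  have hxd : DL Q g ρ (x * d * x⁻¹) b' := ⟨hxdQ, by rw [← P_ap_eq hb', ← hsP]; exact hxdI⟩
  have hlab : Lab Q f g ρ (q * d) (pr (π (f q)), b') := by
    refine ⟨_, _, hxq, hxd, ?_⟩
    calc q * d = x * (q * d) * x⁻¹ := by rw [hxt, mul_inv_cancel_right]
      _ = _ := by group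
  obtain ⟨ha, hb⟩ := Prod.ext_iff.1 ((Lab.unique M W ⟨q, d, hq, hd, rfl⟩ hlab).symm)
  simp only [tLb] at ha hb
  have hsC : π * P (sb 1) * π⁻¹ = P (sb 1) := by
    have e : π * P (sb tLb.2) * π⁻¹ = P (sb b') := hsP.trans (P_ap_eq hb')
    rw [hb] at e
    exact e
  -- `π` fixes the class of `1`
  have hsym : ∀ a c, nb a c = nb c a := fun a c => bl_comm_all _ _
  have h1 : pr (π 1) = 1 := by
    refine nb_one _ fun c => ?_
    set v := π.symm (em c) with hv
    have hv' : π v = em c := π.apply_symm_apply _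
    have hvp : bl v pt = false := by rw [← O_bl hO v pt, hpt, hv']; exact em_perp c
    have hb1 : bl 1 pt = false := by decide
    have e := congrArg (fun σ : Perm (Fin 64) => σ (π v)) hsC
    simp only [Perm.mul_apply, P_apply, Perm.inv_def, Equiv.symm_apply_apply] at e
    rw [sb_act 1 v hvp, sb_act 1 _ (hperp v hvp), O_add hO, O_sel hO, hpt, hv', pr_em] at e
    have e2 : nb (pr v) 1 = nb c 1 :=
      (show ∀ x y : Bool, sel x pt = sel y pt → x = y by decide) _ _ (vadd_left_inj e)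
    have e3 : nb (pr (π 1)) c = nb 1 (pr v) := by
      have h2 := O_bl hO 1 v
      rw [hv', bl_pr _ _ (hperp 1 hb1) (em_perp c), pr_em, bl_pr _ _ hb1 hvp] at h2
      exact h2.trans (by rw [pr_small.1])
    rw [e3, hsym 1, e2, hsym]
  have h8 : pr (π 8) = 4 := by
    have hsp := split_perp _ hq.2.1
    rw [show pr (f q) = 4 from hq.2.2, show em 4 = 8 from rfl] at hsp
    rw [hsp, O_add hO, O_sel hO, hpt, pr_vadd] at ha
    revert ha
    cases (f q).val.testBit 1 <;> intro ha <;> simpa [sel, pr_pt.1, pr_pt.2, (nadd_self _).2.1] using ha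
  have hb8 : bl 8 pt = false := by decide
  have hb1 : bl 1 pt = false := by decide
  have hsmall : ∀ v, bl v pt = false → qb v = false → v ≠ 0 → v ≠ pt → bl v 8 = false →
      bl v 1 = false → pr (π v) = 2 ∨ pr (π v) = 8 := by
    intro v hv hqv hv0 hvp h8v h1v
    refine stab_images _ (hperp v hv) (by rw [O_q hO, hqv]) (fun e => hv0 ?_) (fun e => hvp ?_) ?_ ?_
    · exact π.injective (e.trans (O_zero hO).symm)
    · exact π.injective (e.trans hpt.symm)
    · have h2 := O_bl hO v 8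
      rw [bl_pr _ _ (hperp v hv) (hperp 8 hb8), h8, h8v] at h2
      exact h2
    · have h2 := O_bl hO v 1
      rw [bl_pr _ _ (hperp v hv) (hperp 1 hb1), h1, h1v] at h2
      exact h2
  have c4 := hsmall 4 (by decide) (by decide) (by decide) (by decide) (by decide) (by decide)
  have c32 := hsmall 32 (by decide) (by decide) (by decide) (by decide) (by decide) (by decide)
  have hne : pr (π 4) ≠ pr (π 32) := by
    intro e
    have h2 := O_bl hO 4 32
    rw [bl_pr _ _ (hperp 4 (by decide)) (hperp 32 (by decide)), e] at h2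
    have hself : ∀ a : Fin 16, nb a a = false := fun a => bl_self _
    rw [hself] at h2
    exact absurd h2 (by decide)
  have mk : ∀ σ : Perm (Fin 64), σ ∈ O → σ pt = pt → pr (σ 1) = 1 → pr (σ 4) = 2 →
      pr (σ 8) = 4 → pr (σ 32) = 8 → ∃ b, σ = P (sb b) := by
    intro σ hσ hp e1 e4 e8 e32
    have hpp : ∀ v, bl v pt = false → bl (σ v) pt = false := fun v hv => by
      rw [← hv, ← O_bl hσ v pt, hp]
    have f1 := split_perp _ (hpp 1 (by decide))
    have f4 := split_perp _ (hpp 4 (by decide))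
    have f8 := split_perp _ (hpp 8 (by decide))
    have f32 := split_perp _ (hpp 32 (by decide))
    rw [e1, show em 1 = 1 from rfl] at f1
    rw [e4, show em 2 = 4 from rfl] at f4
    rw [e8, show em 4 = 8 from rfl] at f8
    rw [e32, show em 8 = 32 from rfl] at f32
    have hm : matOf σ = ⟨vadd 1 (sel ((σ 1).val.testBit 1) pt), pt,
        vadd 4 (sel ((σ 4).val.testBit 1) pt), vadd 8 (sel ((σ 8).val.testBit 1) pt), σ 16,
        vadd 32 (sel ((σ 32).val.testBit 1) pt)⟩ := by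
      rw [matOf, show (2 : Fin 64) = pt from rfl, hp, ← f1, ← f4, ← f8, ← f32]
    obtain ⟨s, hs, he⟩ := siegel_complete _ _ _ _ (σ 16)
      ⟨fun j => by rw [← hm, ← O_apply hσ]; exact O_q hσ _,
        fun i j => by rw [← hm, ← O_apply hσ, ← O_apply hσ]; exact O_bl hσ _ _⟩
    obtain ⟨b, hb⟩ := siegel_sb s hs
    exact ⟨b, (P_eq hσ (hm.trans he.symm)).trans (P_ap_eq hb)⟩
  rcases c4 with e4 | e4
  · have e32 : pr (π 32) = 8 := c32.resolve_left fun e => hne (e4.trans e.symm)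
    obtain ⟨b, hb⟩ := mk π hO hpt h1 e4 h8 e32
    obtain ⟨d', hd'⟩ := exists_DL M W b
    have hrI : Img ρ (x * d'⁻¹) 1 := by
      have := hI.mul hd'.2.inv
      rwa [hb, mul_inv_cancel] at this
    have hr := M.img_one_mem hrI
    have hru : x * d'⁻¹ * u = u * (x * d'⁻¹) :=
      ((show Commute x u from hxu).mul_left
        (show Commute d' u from hd'.comm_u M W).inv_left).eq
    refine ⟨(pr (f (x * d'⁻¹)), b), x * d'⁻¹, d', ⟨hr, ?_, rfl⟩, hd', by group⟩
    have h2 := (M.commute_iff hr W.nc.1).1 hru.symm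
    rwa [W.fu] at h2
  · exfalso
    have e32 : pr (π 32) = 2 := c32.resolve_right fun e => hne (e4.trans e.symm)
    obtain ⟨b, hb⟩ := mk (π * tau) (mul_mem hO tau_mem)
      (by rw [Perm.mul_apply, tau_apply, show tauFun pt = pt from tau_facts.2.2.2.2.1]; exact hpt)
      (by rw [Perm.mul_apply, tau_apply, tau_facts.2.2.2.1]; exact h1)
      (by rw [Perm.mul_apply, tau_apply, tau_facts.2.2.2.2.2.1]; exact e32)
      (by rw [Perm.mul_apply, tau_apply, tau_facts.2.2.2.2.2.2.1]; exact h8)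
      (by rw [Perm.mul_apply, tau_apply, tau_facts.2.2.2.2.2.2.2.1]; exact e4)
    refine tau_not_mem M W ?_
    have : tau = π⁻¹ * P (sb b) := by rw [← hb]; group
    rw [this]
    exact mul_mem (inv_mem hI.mem_range) (named_mem M.range_le M.ρ_card _)

/-- An element of `C(z) ∩ C(t)` moving `u` to `zu`, with its action on labels. -/
theorem exists_y {t : G} (ht : Lab Q f g ρ t tLb) :
    ∃ y, y ∈ Cz z ∧ y * t = t * y ∧ y * u * y⁻¹ = z * u ∧
      (∀ e, y * R z u e * y⁻¹ = R z u (e.1 ^^ e.2, e.2)) ∧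
      ∀ x p, Lab Q f g ρ x p → Lab Q f g ρ (y * x * y⁻¹) (sigma p) := by
  obtain ⟨w, hw, hwf⟩ := M.f_surj 16
  obtain ⟨c, hc⟩ := exists_Mv M W (i := 92) (by decide)
  have hi92 : (92 : Ix) ∈ stabIx := by decide
  obtain ⟨h1, h2, h3, h4⟩ := sigma_t
  have hwu : w * u * w⁻¹ = z * u := by
    rw [M.comm W.nc.1 hw, W.fu, hwf, bl_comm_all, h4, zp_true, ← mul_assoc, mul_inv_cancel_right]
  have hwz : w * z = z * w := mem_Cz.1 (M.le hw)
  have hwR : ∀ e, w * R z u e * w⁻¹ = R z u (e.1 ^^ e.2, e.2) := by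
    rintro ⟨i, j⟩
    have ha : w * zp z i * w⁻¹ = zp z i := by
      cases i <;> simp [zp, hwz]
    have hb : w * zp u j * w⁻¹ = zp z j * zp u j := by
      cases j <;> simp [zp, hwu]
    calc w * (zp z i * zp u j) * w⁻¹ = (w * zp z i * w⁻¹) * (w * zp u j * w⁻¹) := by group
      _ = zp z i * (zp z j * zp u j) := by rw [ha, hb]
      _ = _ := by rw [← mul_assoc, ← M.zp_xor]; rfl
  have hwQ : ∀ q a, QL Q f q a → QL Q f (w * q * w⁻¹) a := by
    intro q a hq
    have he : f (w * q * w⁻¹) = f q := by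
      rw [M.img_conj (M.img_q hw) hq.1]; rfl
    exact ⟨M.normal w (M.le hw) q hq.1, by rw [he]; exact hq.2.1, by rw [he]; exact hq.2.2⟩
  have hwD : ∀ d b, DL Q g ρ d b → Lab Q f g ρ (w * d * w⁻¹) (b, b) := by
    intro d b hd
    have hQ : QL Q f (w * d * w⁻¹ * d⁻¹) b := by
      have hQm : d * w⁻¹ * d⁻¹ ∈ Q := M.normal d hd.inCz _ (inv_mem hw)
      have hmem : w * (d * w⁻¹ * d⁻¹) ∈ Q := mul_mem hw hQm
      have he : f (w * (d * w⁻¹ * d⁻¹)) = vadd 16 ((nm (sb b)).ap 16) := by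
        rw [M.f_mul w hw _ hQm, M.img_conj hd.2 (inv_mem hw), M.f_inv hw, hwf, P_apply]
      rw [show w * d * w⁻¹ * d⁻¹ = w * (d * w⁻¹ * d⁻¹) by group]
      refine ⟨hmem, ?_, ?_⟩ <;> rw [he]
      · have hbp : bl ((nm (sb b)).ap 16) pt = true := by
          have h5 := O_bl (M.img_O hd.2) 16 pt
          rw [P_apply, P_apply, h4, show (nm (sb b)).ap pt = pt from by
            rw [sb_act b pt (bl_self pt), pr_pt.1, (nb_zero b).1]; exact SuzTwo.vadd_zero pt] at h5
          exact h5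
        rw [bl_vadd_left, h4, hbp]; rfl
      · rw [pr_vadd, h3, sb_sixteen, (nadd_self b).2.2]
    exact ⟨_, d, hQ, hd, by group⟩
  have hwL : ∀ x p, Lab Q f g ρ x p → Lab Q f g ρ (w * x * w⁻¹) (nadd p.1 p.2, p.2) := by
    rintro x p ⟨q, d, hq, hd, rfl⟩
    have := (Lab_QL M W (hwQ q _ hq)).mul M W (hwD d _ hd)
    rw [show w * (q * d) * w⁻¹ = w * q * w⁻¹ * (w * d * w⁻¹) by group]
    rwa [show ladd (p.1, 0) (p.2, p.2) = (nadd p.1 p.2, p.2) from
      Prod.ext rfl (nadd_self p.2).2.2] at this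
  have hcL : ∀ x p, Lab Q f g ρ x p → Lab Q f g ρ (c * x * c⁻¹) (phi 92 p.1, phi 92 p.2) := by
    rintro x p ⟨q, d, hq, hd, rfl⟩
    exact ⟨_, _, hc.QL M W hi92 hq, hc.DL M W hi92 hd, by group⟩
  have hcwL : ∀ x p, Lab Q f g ρ x p → Lab Q f g ρ (c * w * x * (c * w)⁻¹) (sigma p) := by
    intro x p hp
    have := hcL _ _ (hwL x p hp)
    rwa [show c * (w * x * w⁻¹) * c⁻¹ = c * w * x * (c * w)⁻¹ by group] at this
  have hst : sigma tLb = tLb := Prod.ext h1 h2
  obtain ⟨e, he⟩ := ht.same M W (hst ▸ hcwL t tLb ht)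
  obtain ⟨p, hp⟩ := lc_onto e
  obtain ⟨k, hk⟩ := exists_Lab M W p
  have hkR : ∀ x, k * R z u x * k⁻¹ = R z u x := fun x => by
    rw [hk.comm_R M W x, mul_inv_cancel_right]
  have hkt : k * t * k⁻¹ = R z u e * t := by
    rw [ht.comm M W hk, hp]; group
  refine ⟨k * (c * w), mul_mem (hk.inCz M W) (mul_mem hc.img.mem (M.le hw)), mul_inv_eq_iff_eq_mul.1 ?_, ?_, ?_, ?_⟩
  · calc k * (c * w) * t * (k * (c * w))⁻¹ = k * (c * w * t * (c * w)⁻¹) * k⁻¹ := by group
      _ = k * t * k⁻¹ * (k * R z u e * k⁻¹) := by rw [he]; group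
      _ = t := by
          rw [hkt, hkR, mul_assoc, ht.comm_R M W, ← mul_assoc, R_sq M W, one_mul]
  · have h5 := hwR (false, true)
    simp only [R, zp] at h5
    calc k * (c * w) * u * (k * (c * w))⁻¹ = k * (c * (w * u * w⁻¹) * c⁻¹) * k⁻¹ := by group
      _ = z * u := by
          rw [hwu, show z * u = R z u (true, true) by simp [R, zp], hc.R M W, hkR]
  · intro x
    calc k * (c * w) * R z u x * (k * (c * w))⁻¹
        = k * (c * (w * R z u x * w⁻¹) * c⁻¹) * k⁻¹ := by group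
      _ = _ := by rw [hwR, hc.R M W, hkR]
  · intro x r hr
    have h5 := hcwL x r hr
    have h6 : k * (c * w * x * (c * w)⁻¹) * k⁻¹ =
        c * w * x * (c * w)⁻¹ * R z u (lc (sigma r) p) := by
      rw [Lab.comm M W h5 hk, mul_assoc (R z u _), mul_assoc, ← mul_assoc (c * w * x * (c * w)⁻¹),
        mul_inv_cancel_right, ← h5.comm_R M W]
    rw [show k * (c * w) * x * (k * (c * w))⁻¹ = k * (c * w * x * (c * w)⁻¹) * k⁻¹ by group, h6]
    exact h5.mul_R M W _

end CfsgLib.Small.SuzOrder.Local
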